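import Groth.Prelude.Def_ActBC
import Groth.Prelude.Def_ConstGrp
import Mathlib.AlgebraicGeometry.Group.Affine
import Mathlib.CategoryTheory.Extensive

/-!
# Actions of a constant finite group scheme as families of endomorphisms
-/

set_option autoImplicit false
universe u
open CategoryTheory CategoryTheory.Limits MonoidalCategory CartesianMonoidalCategory MonObj GrpObj AlgebraicGeometry
open scoped TensorProduct

namespace Groth.Agent.H13x26

noncomputable section

variable (k : Type u) [Field k] (G : Type) [Group G] [Fintype G] [DecidableEq G]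

/-- The constant group scheme of `G` over `k`. -/
abbrev cst : Over (Spec (CommRingCat.of k)) :=
  (Spec (CommRingCat.of (ConstGrp.F k G))).asOver (Spec (CommRingCat.of k))

variable {G}

/-- The inclusion of the component of index `g`. -/
def pnt (g : G) : Spec (CommRingCat.of k) ⟶ Spec (CommRingCat.of (ConstGrp.F k G)) :=
  Spec.map (CommRingCat.ofHom (ConstGrp.ev k g).toRingHom)

omit [Group G] [Fintype G] [DecidableEq G] in
theorem pnt_hom (g : G) : pnt k g ≫ Spec.map (CommRingCat.ofHom (algebraMap k (ConstGrp.F k G))) = 𝟙 _ := by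
  rw [pnt, ← Spec.map_comp, ← CommRingCat.ofHom_comp]
  have : (ConstGrp.ev k g).toRingHom.comp (algebraMap k (ConstGrp.F k G)) = RingHom.id k :=
    RingHom.ext fun _ => rfl
  rw [this, CommRingCat.ofHom_id, Spec.map_id]

/-- The point of index `g`. -/
def sect0 (g : G) : 𝟙_ (Over (Spec (CommRingCat.of k))) ⟶ cst k G :=
  Over.homMk (pnt k g) (pnt_hom k g)

theorem sect0_one : sect0 k (1 : G) = η[cst k G] := by
  refine Over.OverMorphism.ext ?_
  rw [one_spec_asOver_spec_left]
  rfl

theorem pnt_mul (g h : G) :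
    pullback.lift (f := Spec.map (CommRingCat.ofHom (algebraMap k (ConstGrp.F k G))))
      (g := Spec.map (CommRingCat.ofHom (algebraMap k (ConstGrp.F k G))))
      (pnt k g) (pnt k h) ((pnt_hom k g).trans (pnt_hom k h).symm) ≫
      (pullbackSpecIso k (ConstGrp.F k G) (ConstGrp.F k G)).hom ≫
        Spec.map (CommRingCat.ofHom (Bialgebra.comulAlgHom k (ConstGrp.F k G)).toRingHom) =
      pnt k (g * h) := by
  let Φ : ConstGrp.F k G ⊗[k] ConstGrp.F k G →ₐ[k] k :=
    Algebra.TensorProduct.lift (ConstGrp.ev k g) (ConstGrp.ev k h) fun _ _ => Commute.all _ _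
  have hl : pullback.lift (f := Spec.map (CommRingCat.ofHom (algebraMap k (ConstGrp.F k G))))
      (g := Spec.map (CommRingCat.ofHom (algebraMap k (ConstGrp.F k G))))
      (pnt k g) (pnt k h) ((pnt_hom k g).trans (pnt_hom k h).symm) ≫
        (pullbackSpecIso k (ConstGrp.F k G) (ConstGrp.F k G)).hom =
      Spec.map (CommRingCat.ofHom Φ.toRingHom) := by
    rw [← Iso.eq_comp_inv]
    apply pullback.hom_ext
    · rw [Category.assoc, pullbackSpecIso_inv_fst, ← Spec.map_comp, ← CommRingCat.ofHom_comp,
        pullback.lift_fst, pnt]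
      congr 2
      ext x
      simp [Φ]
    · rw [Category.assoc, pullbackSpecIso_inv_snd, ← Spec.map_comp, ← CommRingCat.ofHom_comp,
        pullback.lift_snd, pnt]
      congr 2
      ext x
      simp [Φ]
  rw [reassoc_of% hl, ← Spec.map_comp, ← CommRingCat.ofHom_comp, pnt]
  have hc : Φ.comp (Bialgebra.comulAlgHom k (ConstGrp.F k G)) = ConstGrp.ev k (g * h) := by
    apply ConstGrp.algHom_ext
    intro x
    rw [AlgHom.comp_apply, ConstGrp.comulAlgHom_eq, ConstGrp.comulAlg_e, map_sum]
    simp only [Φ, Algebra.TensorProduct.lift_tmul, ConstGrp.ev_apply, ConstGrp.e_apply]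
    rw [Finset.sum_eq_single g]
    · simp [eq_inv_mul_iff_mul_eq]
    · intro a _ ha
      simp [Ne.symm ha]
    · simp
  rw [← hc]
  rfl

theorem sect0_mul (g h : G) : lift (sect0 k g) (sect0 k h) ≫ μ[cst k G] = sect0 k (g * h) := by
  refine Over.OverMorphism.ext (Eq.trans ?_ (pnt_mul k g h))
  exact congrArg ((lift (sect0 k g) (sect0 k h)).left ≫ ·) mul_spec_asOver_spec_left

variable {B : Scheme.{u}} (b : B ⟶ Spec (CommRingCat.of k))

/-- The constant section of index `g` of the constant group over `B`. -/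
def sect (g : G) : 𝟙_ (Over B) ⟶ Red.bc b (cst k G) :=
  Functor.LaxMonoidal.ε (Over.pullback b) ≫ (Over.pullback b).map (sect0 k g)

theorem sect_one : sect k b (1 : G) = η[Red.bc b (cst k G)] := by
  rw [sect, sect0_one]
  exact (Functor.obj.η_def (F := Over.pullback b) (X := cst k G)).symm

theorem sect_mul (g h : G) :
    lift (sect k b g) (sect k b h) ≫ μ[Red.bc b (cst k G)] = sect k b (g * h) := by
  rw [sect, sect, sect, ← sect0_mul, Functor.map_comp, ← Functor.Monoidal.lift_μ_assoc,
    ← comp_lift_assoc]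
  rfl

theorem sect_left_fst (g : G) : (sect k b g).left ≫ pullback.fst _ _ = b ≫ pnt k g := by
  have hε : (Functor.LaxMonoidal.ε (Over.pullback b)).left ≫ pullback.fst _ _ = b := by
    have h1 := Over.w (Functor.LaxMonoidal.ε (Over.pullback b))
    have h2 : pullback.fst (𝟙_ (Over (Spec (CommRingCat.of k)))).hom b ≫
        (𝟙_ (Over (Spec (CommRingCat.of k)))).hom = pullback.snd _ _ ≫ b := pullback.condition
    have h3 : (𝟙_ (Over (Spec (CommRingCat.of k)))).hom = 𝟙 _ := rfl
    rw [h3, Category.comp_id] at h2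
    refine (congrArg ((Functor.LaxMonoidal.ε (Over.pullback b)).left ≫ ·) h2).trans ?_
    rw [← Category.assoc]
    erw [h1]
    exact Category.id_comp b
  show ((Functor.LaxMonoidal.ε (Over.pullback b)).left ≫ ((Over.pullback b).map (sect0 k g)).left) ≫ _ = _
  rw [Category.assoc]
  erw [ActBC.pullback_map_left_fst]
  rw [← Category.assoc]
  erw [hε]
  rfl

/-- The component of index `g` of `G × Y`. -/
def comp (g : G) (Y : Over B) : Y ⟶ Red.bc b (cst k G) ⊗ Y :=
  lift (toUnit Y ≫ sect k b g) (𝟙 Y)

@[reassoc (attr := simp)]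
theorem comp_snd (g : G) (Y : Over B) : comp k b g Y ≫ snd _ _ = 𝟙 Y := lift_snd _ _

@[reassoc]
theorem comp_fst (g : G) (Y : Over B) : comp k b g Y ≫ fst _ _ = toUnit Y ≫ sect k b g := lift_fst _ _

@[reassoc]
theorem comp_naturality (g : G) {Y Y' : Over B} (x : Y ⟶ Y') :
    comp k b g Y ≫ (Red.bc b (cst k G) ◁ x) = x ≫ comp k b g Y' := by
  apply CartesianMonoidalCategory.hom_ext
  · simp only [Category.assoc, whiskerLeft_fst, comp_fst]
    rw [← Category.assoc, toUnit_unique (x ≫ toUnit Y') (toUnit Y)]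
  · simp [comp]

omit [Group G] [DecidableEq G] in
variable (G) in
/-- The spectrum of a ring of functions on a finite set is a disjoint union. -/
theorem isIso_sigmaDesc_eval (R : Type u) [CommRing R] :
    IsIso (Sigma.desc (fun g : G => Spec.map (CommRingCat.ofHom (Pi.evalRingHom (fun _ : G => R) g)))) := by
  let e : ULift.{u} G ≃ G := Equiv.ulift
  let φ : CommRingCat.of (ULift.{u} G → R) ⟶ CommRingCat.of (G → R) :=
    CommRingCat.ofHom (RingHom.pi (fun g : G => Pi.evalRingHom (fun _ : ULift.{u} G => R) ⟨g⟩))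
  let D := Sigma.desc (fun g : G => Spec.map (CommRingCat.ofHom (Pi.evalRingHom (fun _ : G => R) g)))
  have h : (Sigma.reindex e (fun _ : G => Spec (CommRingCat.of R))).hom ≫ D ≫ Spec.map φ =
      sigmaSpec (fun _ : ULift.{u} G => CommRingCat.of R) := by
    refine Sigma.hom_ext _ _ fun g => ?_
    rw [Sigma.ι_reindex_hom_assoc, Sigma.ι_desc_assoc]
    refine ((Spec.map_comp _ _).symm.trans ?_).trans (ι_sigmaSpec (fun _ : ULift.{u} G => CommRingCat.of R) g).symm
    rfl
  let E : (ULift.{u} G → R) ≃+* (G → R) :=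
    { toFun := fun f g => f ⟨g⟩, invFun := fun f g => f g.down, left_inv := fun _ => rfl,
      right_inv := fun _ => rfl, map_mul' := fun _ _ => rfl, map_add' := fun _ _ => rfl }
  haveI h1 : IsIso φ := inferInstanceAs (IsIso E.toCommRingCatIso.hom)
  haveI : IsIso (Spec.map φ) := inferInstanceAs (IsIso (Scheme.Spec.map φ.op))
  have h2 : IsIso ((Sigma.reindex e (fun _ : G => Spec (CommRingCat.of R))).hom ≫ D ≫ Spec.map φ) :=
    h ▸ inferInstanceAs (IsIso (sigmaSpec (fun _ : ULift.{u} G => CommRingCat.of R)))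
  haveI h3 := IsIso.of_isIso_comp_left (Sigma.reindex e (fun _ : G => Spec (CommRingCat.of R))).hom (D ≫ Spec.map φ)
  exact IsIso.of_isIso_comp_right D (Spec.map φ)

variable (G) in
theorem isIso_sigmaDesc_pnt : IsIso (Sigma.desc (fun g : G => pnt k g)) :=
  isIso_sigmaDesc_eval G k

omit [Group G] [DecidableEq G] in
theorem bc_hom_ext {T : Over B} {u v : T ⟶ Red.bc b (cst k G)}
    (h : u.left ≫ pullback.fst (cst k G).hom b = v.left ≫ pullback.fst (cst k G).hom b) : u = v :=
  Over.OverMorphism.ext (pullback.hom_ext h ((Over.w u).trans (Over.w v).symm))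

/-- The projection to the constant group over `k`. -/
def toCst (Y : Over B) :
    (Red.bc b (cst k G) ⊗ Y).left ⟶ Spec (CommRingCat.of (ConstGrp.F k G)) :=
  (fst (Red.bc b (cst k G)) Y).left ≫ pullback.fst (cst k G).hom b

theorem toCst_hom (Y : Over B) :
    toCst k b Y ≫ Spec.map (CommRingCat.ofHom (algebraMap k (ConstGrp.F k G))) =
      (Red.bc b (cst k G) ⊗ Y).hom ≫ b := by
  have h1 : pullback.fst (cst k G).hom b ≫ (cst k G).hom =
      (Red.bc b (cst k G)).hom ≫ b := pullback.condition
  show ((fst (Red.bc b (cst k G)) Y).left ≫ pullback.fst (cst k G).hom b) ≫ (cst k G).hom = _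
  refine (Category.assoc _ _ _).trans ?_
  rw [h1]
  exact (Category.assoc _ _ _).symm.trans (congrArg (· ≫ b) (Over.w (fst (Red.bc b (cst k G)) Y)))

theorem comp_toCst (g : G) (Y : Over B) : (comp k b g Y).left ≫ toCst k b Y = (Y.hom ≫ b) ≫ pnt k g := by
  have h1 := congrArg (fun m => Over.Hom.left m ≫ pullback.fst (cst k G).hom b) (comp_fst k b g Y)
  refine ((Category.assoc _ _ _).symm.trans h1).trans ?_
  refine (Category.assoc _ _ _).trans ?_
  refine (congrArg ((toUnit Y).left ≫ ·) (sect_left_fst k b g)).trans ?_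
  exact (Category.assoc _ _ _).symm

theorem eq_comp_of_toCst (g : G) (Y : Over B) {T : Over B} (a : T ⟶ Red.bc b (cst k G) ⊗ Y)
    (c : T.left ⟶ Spec (CommRingCat.of k)) (h : a.left ≫ toCst k b Y = c ≫ pnt k g) :
    (a ≫ snd _ _) ≫ comp k b g Y = a := by
  have hc : c = T.hom ≫ b := by
    have h1 := congrArg (· ≫ Spec.map (CommRingCat.ofHom (algebraMap k (ConstGrp.F k G)))) h
    simp only [Category.assoc, pnt_hom, toCst_hom, Category.comp_id] at h1
    rw [← h1, ← Category.assoc, Over.w]
  apply CartesianMonoidalCategory.hom_ext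
  · rw [Category.assoc, comp_fst, ← Category.assoc, toUnit_unique ((a ≫ snd _ _) ≫ toUnit Y) (toUnit T)]
    apply bc_hom_ext k b
    refine (Category.assoc _ _ _).trans ?_
    refine (congrArg ((toUnit T).left ≫ ·) (sect_left_fst k b g)).trans ?_
    refine ((Category.assoc _ _ _).symm.trans ?_).trans (h.symm.trans (Category.assoc _ _ _).symm)
    rw [hc]
    rfl
  · rw [Category.assoc, comp_snd, Category.comp_id]

theorem isPullback_comp (g : G) (Y : Over B) :
    IsPullback (comp k b g Y).left (Y.hom ≫ b) (toCst k b Y) (pnt k g) := by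
  refine IsPullback.of_isLimit (PullbackCone.IsLimit.mk (comp_toCst k b g Y)
    (fun s => s.fst ≫ (snd (Red.bc b (cst k G)) Y).left) ?_ ?_ ?_)
  · intro s
    let T : Over B := Over.mk (s.fst ≫ (Red.bc b (cst k G) ⊗ Y).hom)
    let a : T ⟶ Red.bc b (cst k G) ⊗ Y := Over.homMk s.fst rfl
    exact congrArg (·.left) (eq_comp_of_toCst k b g Y a s.snd s.condition)
  · intro s
    have h1 := congrArg (· ≫ Spec.map (CommRingCat.ofHom (algebraMap k (ConstGrp.F k G)))) s.condition
    simp only [Category.assoc, pnt_hom, toCst_hom, Category.comp_id] at h1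
    rw [← h1, Category.assoc, ← Category.assoc (snd (Red.bc b (cst k G)) Y).left, Over.w]
  · intro s m h1 h2
    rw [← h1, Category.assoc, ← Over.comp_left, comp_snd, Over.id_left]
    exact (Category.comp_id m).symm

variable (G) in
theorem isIso_sigmaDesc_comp (Y : Over B) : IsIso (Sigma.desc (fun g : G => (comp k b g Y).left)) := by
  have h := FinitaryPreExtensive.isIso_sigmaDesc_fst (fun g : G => pnt k g) (toCst k b Y) (isIso_sigmaDesc_pnt k G)
  have h2 : Sigma.desc (fun g : G => (comp k b g Y).left) =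
      Limits.Sigma.map (fun g => (isPullback_comp k b g Y).isoPullback.hom) ≫
        Sigma.desc (fun g : G => pullback.fst (toCst k b Y) (pnt k g)) := by
    refine Sigma.hom_ext _ _ fun g => ?_
    rw [Sigma.ι_desc, Sigma.ι_map_assoc, Sigma.ι_desc, IsPullback.isoPullback_hom_fst]
  rw [h2]
  exact @IsIso.comp_isIso _ _ _ _ _ _ _ inferInstance h

/-- Morphisms out of `G × Y` are determined by their components. -/
theorem comp_hom_ext {Y Z : Over B} {v w : Red.bc b (cst k G) ⊗ Y ⟶ Z}
    (h : ∀ g, comp k b g Y ≫ v = comp k b g Y ≫ w) : v = w := by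
  have := isIso_sigmaDesc_comp k G b Y
  refine Over.OverMorphism.ext ((cancel_epi (Sigma.desc fun g : G => (comp k b g Y).left)).1
    (Sigma.hom_ext _ _ fun g => ?_))
  simp only [Sigma.ι_desc_assoc]
  exact congrArg (·.left) (h g)

/-- The morphism out of `G × Y` with given components. -/
def compDesc {Y Z : Over B} (φ : G → (Y ⟶ Z)) : Red.bc b (cst k G) ⊗ Y ⟶ Z :=
  haveI := isIso_sigmaDesc_comp k G b Y
  Over.homMk (inv (Sigma.desc fun g : G => (comp k b g Y).left) ≫ Sigma.desc fun g => (φ g).left) (by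
    rw [Category.assoc, IsIso.inv_comp_eq]
    refine Sigma.hom_ext _ _ fun g => ?_
    simp only [Sigma.ι_desc_assoc]
    rw [Over.w, Over.w])

@[reassoc (attr := simp)]
theorem comp_compDesc {Y Z : Over B} (φ : G → (Y ⟶ Z)) (g : G) : comp k b g Y ≫ compDesc k b φ = φ g := by
  have := isIso_sigmaDesc_comp k G b Y
  refine Over.OverMorphism.ext ?_
  show (comp k b g Y).left ≫ inv (Sigma.desc fun g : G => (comp k b g Y).left) ≫ _ = _
  have : (comp k b g Y).left = Sigma.ι (fun _ : G => Y.left) g ≫ Sigma.desc fun g : G => (comp k b g Y).left :=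
    (Sigma.ι_desc (fun g : G => (comp k b g Y).left) g).symm
  refine (congrArg (· ≫ _) this).trans ?_
  rw [Category.assoc, IsIso.hom_inv_id_assoc]
  exact Sigma.ι_desc _ _

/-- The action of the constant group defined by a family of endomorphisms. -/
def mkAction {X : Over B} (e : G → (X ⟶ X)) (h1 : e 1 = 𝟙 X) (hmul : ∀ g h, e g ≫ e h = e (h * g)) :
    AlgGrp.Action (Red.bc b (cst k G)) X where
  act := compDesc k b e
  one_act := by
    rw [← cancel_epi (λ_ X).inv, Iso.inv_hom_id, ← Category.assoc]
    have : (λ_ X).inv ≫ (η[Red.bc b (cst k G)] ▷ X) = comp k b 1 X := by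
      apply CartesianMonoidalCategory.hom_ext
      · simp [comp, sect_one]
      · simp [comp]
    rw [this, comp_compDesc, h1]
  mul_act := by
    rw [← cancel_epi (α_ _ _ X).inv, Iso.inv_hom_id_assoc]
    refine comp_hom_ext k b fun g => comp_hom_ext k b fun h => ?_
    have h2 : comp k b h X ≫ comp k b g (Red.bc b (cst k G) ⊗ X) ≫ (α_ _ _ X).inv ≫
        (μ[Red.bc b (cst k G)] ▷ X) = comp k b (g * h) X := by
      apply CartesianMonoidalCategory.hom_ext
      · simp only [Category.assoc, whiskerRight_fst]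
        rw [show (α_ (Red.bc b (cst k G)) (Red.bc b (cst k G)) X).inv ≫ fst _ X ≫ μ[Red.bc b (cst k G)] =
          lift (fst _ _) (snd _ _ ≫ fst _ _) ≫ μ[Red.bc b (cst k G)] from by
            rw [← Category.assoc]; congr 1; apply CartesianMonoidalCategory.hom_ext <;> simp]
        rw [comp_lift_assoc, comp_lift_assoc]
        simp only [comp_fst, comp_fst_assoc, comp_snd_assoc, comp_fst]
        rw [← Category.assoc, toUnit_unique (comp k b h X ≫ toUnit _) (toUnit X), ← comp_lift_assoc, sect_mul]
      · simp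
    simp only [← Category.assoc] at h2 ⊢
    rw [h2, comp_compDesc]
    simp only [Category.assoc]
    rw [comp_naturality_assoc, comp_compDesc_assoc, comp_compDesc, hmul]

/-- The endomorphism defined by an element of `G`. -/
def endo {X : Over B} (a : AlgGrp.Action (Red.bc b (cst k G)) X) (g : G) : X ⟶ X :=
  comp k b g X ≫ a.act

theorem endo_mkAction {X : Over B} (e : G → (X ⟶ X)) (h1 : e 1 = 𝟙 X)
    (hmul : ∀ g h, e g ≫ e h = e (h * g)) (g : G) : endo k b (mkAction k b e h1 hmul) g = e g :=
  comp_compDesc k b e g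

theorem endo_one {X : Over B} (a : AlgGrp.Action (Red.bc b (cst k G)) X) : endo k b a 1 = 𝟙 X := by
  have : comp k b (1 : G) X = (λ_ X).inv ≫ (η[Red.bc b (cst k G)] ▷ X) := by
    apply CartesianMonoidalCategory.hom_ext
    · simp [comp, sect_one]
    · simp [comp]
  rw [endo, this, Category.assoc, a.one_act, Iso.inv_hom_id]

theorem endo_comp {X : Over B} (a : AlgGrp.Action (Red.bc b (cst k G)) X) (g h : G) :
    endo k b a g ≫ endo k b a h = endo k b a (h * g) := by
  have h2 : comp k b g X ≫ comp k b h (Red.bc b (cst k G) ⊗ X) ≫ (α_ _ _ X).inv ≫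
      (μ[Red.bc b (cst k G)] ▷ X) = comp k b (h * g) X := by
    apply CartesianMonoidalCategory.hom_ext
    · simp only [Category.assoc, whiskerRight_fst]
      rw [show (α_ (Red.bc b (cst k G)) (Red.bc b (cst k G)) X).inv ≫ fst _ X ≫ μ[Red.bc b (cst k G)] =
        lift (fst _ _) (snd _ _ ≫ fst _ _) ≫ μ[Red.bc b (cst k G)] from by
          rw [← Category.assoc]; congr 1; apply CartesianMonoidalCategory.hom_ext <;> simp]
      rw [comp_lift_assoc, comp_lift_assoc]
      simp only [comp_fst, comp_fst_assoc, comp_snd_assoc, comp_fst]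
      rw [← Category.assoc, toUnit_unique (comp k b g X ≫ toUnit _) (toUnit X), ← comp_lift_assoc, sect_mul]
    · simp
  simp only [endo, ← h2, Category.assoc, a.mul_act, Iso.inv_hom_id_assoc]
  rw [comp_naturality_assoc]

end

end Groth.Agent.H13x26
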