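import Groth.Agent.H13x26.GalTorsor
import Groth.Agent.Csa25.BaseChange
import Groth.Agent.Csa25.Splitting
import Mathlib.LinearAlgebra.Matrix.Kronecker
import Mathlib.FieldTheory.IsAlgClosed.Basic

/-!
# A twisted permutation model of a division algebra

For a central division algebra `D` over `E` and an algebraically closed field `k ⊆ E` of characteristic zero, some
matrix algebra over `D` embeds into matrices over a finite Galois extension `N` of `E` in such a way that the Galois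
group acts through conjugation by matrices with entries in `k`.
-/

set_option autoImplicit false
universe u
open scoped TensorProduct Kronecker
open Module

namespace Groth.Agent.H13x26

noncomputable section

section Schur

variable {E N : Type u} [Field E] [Field N] [Algebra E N] {D : Type u} [DivisionRing D] [Algebra E D]
  [Algebra.IsCentral E D] [FiniteDimensional E D] {n : ℕ}

theorem exists_conj (hn : n ≠ 0) (f g : D →ₐ[E] Matrix (Fin n) (Fin n) N) :
    ∃ Q : (Matrix (Fin n) (Fin n) N)ˣ, ∀ x, g x = (Q⁻¹ : (Matrix (Fin n) (Fin n) N)ˣ) * f x * Q := by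
  haveI : NeZero n := ⟨hn⟩
  haveI : IsSimpleRing (N ⊗[E] D) := Csa25.isSimpleRing_baseChange E D N
  let F (h : D →ₐ[E] Matrix (Fin n) (Fin n) N) : N ⊗[E] D →ₐ[N] Matrix (Fin n) (Fin n) N :=
    Algebra.TensorProduct.lift (Algebra.ofId N _) h fun a _ => Algebra.commutes a _
  obtain ⟨w, hw⟩ := Csa25.exists_unit_conj (k := N) (F f) (F g)
  refine ⟨w⁻¹, fun x => ?_⟩
  rw [inv_inv]
  simpa [F] using hw (1 ⊗ₜ x)

theorem mem_scalar_of_commute (hn : n ≠ 0) (hD : finrank E D = n * n)
    (f : D →ₐ[E] Matrix (Fin n) (Fin n) N) (C : Matrix (Fin n) (Fin n) N) (hC : ∀ x, Commute C (f x)) :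
    C ∈ Set.range (Matrix.scalar (Fin n)) := by
  haveI : NeZero n := ⟨hn⟩
  haveI : IsSimpleRing (N ⊗[E] D) := Csa25.isSimpleRing_baseChange E D N
  let F : N ⊗[E] D →ₐ[N] Matrix (Fin n) (Fin n) N :=
    Algebra.TensorProduct.lift (Algebra.ofId N _) f fun a _ => Algebra.commutes a _
  have hinj : Function.Injective F := RingHom.injective F.toRingHom
  have hsurj : Function.Surjective F := by
    refine (LinearMap.injective_iff_surjective_of_finrank_eq_finrank (f := F.toLinearMap) ?_).1 hinj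
    rw [Module.finrank_baseChange, hD, Module.finrank_matrix, Module.finrank_self]
    simp
  refine Matrix.mem_range_scalar_of_commute_single fun i j _ => ?_
  obtain ⟨z, hz⟩ := hsurj (Matrix.single i j 1)
  rw [← hz]
  clear hz
  induction z using TensorProduct.induction_on with
  | zero => rw [map_zero]; exact Commute.zero_left C
  | tmul a x =>
    simp only [F, Algebra.TensorProduct.lift_tmul, Algebra.ofId_apply]
    exact (Algebra.commute_algebraMap_left a C).mul_left (hC x).symm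
  | add p q hp hq =>
    rw [map_add]
    exact hp.add_left hq

end Schur

/-- Conjugation by a unit. -/
def conjHom {R A : Type*} [CommSemiring R] [Semiring A] [Algebra R A] (u : Aˣ) : A →ₐ[R] A where
  toFun x := (u⁻¹ : Aˣ) * x * u
  map_one' := by simp
  map_mul' x y := by simp [mul_assoc]
  map_zero' := by simp
  map_add' x y := by simp [mul_add, add_mul]
  commutes' c := by
    rw [mul_assoc, Algebra.commutes, ← mul_assoc, Units.inv_mul, one_mul]

/-- `1 ⊗ R` with the entries of `R` sent along `φ`. -/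
def blockMat {k N : Type*} [CommRing k] [CommRing N] (n : ℕ) {r : ℕ} (φ : k →+* N) :
    Matrix (Fin r) (Fin r) k →* Matrix (Fin n × Fin r) (Fin n × Fin r) N where
  toFun R := (1 : Matrix (Fin n) (Fin n) N) ⊗ₖ R.map φ
  map_one' := by rw [Matrix.map_one _ (map_zero φ) (map_one φ), Matrix.one_kronecker_one]
  map_mul' A B := by rw [Matrix.map_mul, ← Matrix.mul_kronecker_mul, one_mul]

theorem blockMat_smul {k N : Type*} [CommRing k] [CommRing N] {n r : ℕ} (φ : k →+* N) (c : k)
    (A : Matrix (Fin r) (Fin r) k) : blockMat n φ (c • A) = φ c • blockMat n φ A := by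
  ext p q
  simp [blockMat, Matrix.kroneckerMap_apply, mul_left_comm]

theorem blockMat_map {k N N' : Type*} [CommRing k] [CommRing N] [CommRing N'] {n r : ℕ} (φ : k →+* N)
    (ψ : N →+* N') (A : Matrix (Fin r) (Fin r) k) :
    (blockMat n φ A).map ψ = blockMat n (ψ.comp φ) A := by
  ext p q
  simp [blockMat, Matrix.kroneckerMap_apply, Matrix.one_apply]
  split_ifs <;> simp

variable {k K E : Type u} [Field k] [IsAlgClosed k] [CharZero k] [Field K] [Algebra k K] [Field E] [Algebra K E]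
  [FiniteDimensional K E] {D : Type u} [DivisionRing D] [Algebra E D] [Algebra.IsCentral E D] [FiniteDimensional E D]

theorem exists_normalized [CharZero K] :
    ∃ (N : Type u) (_ : Field N) (_ : Algebra K N) (_ : Algebra E N) (_ : IsScalarTower K E N)
      (_ : FiniteDimensional K N) (_ : IsGalois K N) (n : ℕ) (f : D →ₐ[E] Matrix (Fin n) (Fin n) N)
      (Q : (N ≃ₐ[E] N) → (Matrix (Fin n) (Fin n) N)ˣ),
      n ≠ 0 ∧ finrank E D = n * n ∧ (∀ σ, (Q σ : Matrix (Fin n) (Fin n) N).det = 1) ∧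
      ∀ (σ : N ≃ₐ[E] N) x, (f x).map σ = ((Q σ)⁻¹ : (Matrix (Fin n) (Fin n) N)ˣ) * f x * Q σ := by
  haveI : CharZero E := charZero_of_injective_algebraMap (algebraMap K E).injective
  let Ω := AlgebraicClosure E
  obtain ⟨F, hFfin, -, n, hn, ⟨eF⟩⟩ := Csa25.exists_galois_splitting E D
  have hD : finrank E D = n * n := by
    have h := eF.toLinearEquiv.finrank_eq
    rw [Module.finrank_baseChange, Module.finrank_matrix, Module.finrank_self] at h
    simpa using h
  haveI : Algebra.IsAlgebraic K Ω := Algebra.IsAlgebraic.trans K E Ω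
  haveI : IsAlgClosed Ω := AlgebraicClosure.isAlgClosed E
  haveI : FiniteDimensional K (F.restrictScalars K) := Module.Finite.trans (R := K) E F
  let N₁ : IntermediateField K Ω := IntermediateField.normalClosure K (F.restrictScalars K) Ω
  haveI : IsGalois K N₁ := ⟨⟩
  have hFN : ∀ y ∈ F, y ∈ N₁ := fun y hy =>
    AlgHom.fieldRange_le_normalClosure ((F.restrictScalars K).val) ⟨⟨y, hy⟩, rfl⟩
  letI : Algebra E N₁ :=
    ((algebraMap E Ω).codRestrict N₁.toSubfield fun x => hFN _ (F.algebraMap_mem x)).toAlgebra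
  haveI : IsScalarTower E N₁ Ω := IsScalarTower.of_algebraMap_eq fun _ => rfl
  haveI : IsScalarTower K E N₁ := IsScalarTower.of_algebraMap_eq fun x => Subtype.ext
    (IsScalarTower.algebraMap_apply K E Ω x)
  let i₁ : F →ₐ[E] N₁ :=
    { toFun := fun y => ⟨y, hFN _ y.2⟩, map_one' := rfl, map_mul' := fun _ _ => rfl,
      map_zero' := rfl, map_add' := fun _ _ => rfl, commutes' := fun _ => rfl }
  let f₁ : D →ₐ[E] Matrix (Fin n) (Fin n) N₁ :=
    i₁.mapMatrix.comp ((eF.toAlgHom.restrictScalars E).comp Algebra.TensorProduct.includeRight)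
  choose Q₁ hQ₁ using fun s : N₁ ≃ₐ[E] N₁ => exists_conj hn f₁ (s.toAlgHom.mapMatrix.comp f₁)
  choose z hz using fun s : N₁ ≃ₐ[E] N₁ =>
    IsAlgClosed.exists_pow_nat_eq ((Q₁ s : Matrix (Fin n) (Fin n) N₁).det : Ω) (Nat.pos_of_ne_zero hn)
  haveI : FiniteDimensional E N₁ := Module.Finite.of_restrictScalars_finite K E N₁
  haveI : Finite (Set.range z) := (Set.finite_range z).to_subtype
  let N₂ : IntermediateField K Ω := N₁ ⊔ IntermediateField.adjoin K (Set.range z)
  haveI : FiniteDimensional K (IntermediateField.adjoin K (Set.range z)) :=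
    IntermediateField.finiteDimensional_adjoin fun x _ => Algebra.IsIntegral.isIntegral x
  haveI : FiniteDimensional K N₂ := IntermediateField.finiteDimensional_sup _ _
  let N : IntermediateField K Ω := IntermediateField.normalClosure K N₂ Ω
  haveI : IsGalois K N := ⟨⟩
  have h2N : ∀ y ∈ N₂, y ∈ N := fun y hy => AlgHom.fieldRange_le_normalClosure N₂.val ⟨⟨y, hy⟩, rfl⟩
  have h1N : ∀ y ∈ N₁, y ∈ N := fun y hy => h2N y ((le_sup_left : N₁ ≤ N₂) hy)
  have hzN : ∀ s, z s ∈ N := fun s => h2N _ ((le_sup_right : _ ≤ N₂) (IntermediateField.subset_adjoin K _ ⟨s, rfl⟩))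
  letI : Algebra E N := ((algebraMap E Ω).codRestrict N.toSubfield fun x => h1N _ (hFN _ (F.algebraMap_mem x))).toAlgebra
  haveI : IsScalarTower E N Ω := IsScalarTower.of_algebraMap_eq fun _ => rfl
  haveI : IsScalarTower K E N := IsScalarTower.of_algebraMap_eq fun x => Subtype.ext
    (IsScalarTower.algebraMap_apply K E Ω x)
  let i : N₁ →ₐ[E] N :=
    { toFun := fun y => ⟨y, h1N _ y.2⟩, map_one' := rfl, map_mul' := fun _ _ => rfl,
      map_zero' := rfl, map_add' := fun _ _ => rfl, commutes' := fun _ => rfl }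
  letI : Algebra N₁ N := i.toRingHom.toAlgebra
  haveI : IsScalarTower E N₁ N := IsScalarTower.of_algebraMap_eq fun x => (i.commutes x).symm
  haveI : Normal E N₁ := Normal.tower_top_of_normal K E N₁
  let res : (N ≃ₐ[E] N) → (N₁ ≃ₐ[E] N₁) := fun σ => σ.restrictNormal N₁
  have hres : ∀ σ x, σ (i x) = i (res σ x) := fun σ x => (σ.restrictNormal_commutes N₁ x).symm
  let ζ : (N₁ ≃ₐ[E] N₁) → N := fun s => ⟨z s, hzN s⟩
  have hζ : ∀ s, ζ s ^ n = i (Q₁ s : Matrix (Fin n) (Fin n) N₁).det := fun s => Subtype.ext (hz s)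
  have hζ0 : ∀ s, ζ s ≠ 0 := by
    intro s h0
    have := hζ s
    rw [h0, zero_pow hn] at this
    exact ((((Matrix.isUnit_iff_isUnit_det _).1 (Q₁ s).isUnit).map i).ne_zero) this.symm
  let Q : (N ≃ₐ[E] N) → (Matrix (Fin n) (Fin n) N)ˣ := fun σ =>
    (Units.map (Matrix.scalar (Fin n) : N →+* _).toMonoidHom (Units.mk0 _ (hζ0 (res σ))))⁻¹ *
      Units.map (i.mapMatrix : Matrix (Fin n) (Fin n) N₁ →ₐ[E] _).toRingHom.toMonoidHom (Q₁ (res σ))
  refine ⟨N, inferInstance, inferInstance, inferInstance, inferInstance, inferInstance, inferInstance, n,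
    i.mapMatrix.comp f₁, Q, hn, hD, fun σ => ?_, fun σ x => ?_⟩
  · show ((Matrix.scalar (Fin n)) ((ζ (res σ))⁻¹) * i.mapMatrix (Q₁ (res σ) : Matrix (Fin n) (Fin n) N₁)).det = 1
    rw [Matrix.det_mul, Matrix.scalar_apply, Matrix.det_diagonal, Finset.prod_const, Finset.card_univ,
      Fintype.card_fin, ← AlgHom.map_det, ← hζ, inv_pow, inv_mul_cancel₀ (pow_ne_zero _ (hζ0 _))]
  · have h1 : (i.mapMatrix (f₁ x)).map σ = i.mapMatrix ((f₁ x).map (res σ)) := by
      ext a b
      exact congrArg Subtype.val (hres σ _)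
    show (i.mapMatrix (f₁ x)).map σ = _
    rw [h1]
    have h2 : (f₁ x).map (res σ) =
        ((Q₁ (res σ))⁻¹ : (Matrix (Fin n) (Fin n) N₁)ˣ) * f₁ x * Q₁ (res σ) := hQ₁ (res σ) x
    rw [h2, map_mul, map_mul]
    simp only [Q, mul_inv_rev, inv_inv, Units.val_mul]
    have hc : ∀ A : Matrix (Fin n) (Fin n) N, Matrix.scalar (Fin n) (ζ (res σ)) * A * Matrix.scalar (Fin n) (ζ (res σ))⁻¹ = A := by
      intro A
      rw [(Matrix.scalar_commute _ (fun r => Commute.all _ r) A).eq, mul_assoc, ← map_mul,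
        mul_inv_cancel₀ (hζ0 _), map_one, mul_one]
    show _ = (i.mapMatrix _ * Matrix.scalar (Fin n) (ζ (res σ))) * i.mapMatrix (f₁ x) *
      (Matrix.scalar (Fin n) (ζ (res σ))⁻¹ * i.mapMatrix _)
    rw [← mul_assoc, mul_assoc (i.mapMatrix _) (Matrix.scalar (Fin n) (ζ (res σ))) (i.mapMatrix (f₁ x)),
      mul_assoc (i.mapMatrix _) (Matrix.scalar (Fin n) (ζ (res σ)) * i.mapMatrix (f₁ x)), hc]
    rfl

theorem exists_twisted_model :
    ∃ (N : Type u) (_ : Field N) (_ : Algebra K N) (_ : Algebra E N) (_ : IsScalarTower K E N)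
      (_ : FiniteDimensional K N) (_ : IsGalois K N) (n r : ℕ)
      (R : (N ≃ₐ[E] N) → GL (Fin r) k)
      (j : Matrix (Fin r) (Fin r) D →ₐ[E] Matrix (Fin n × Fin r) (Fin n × Fin r) N),
      n ≠ 0 ∧ r ≠ 0 ∧ finrank E D = n * n ∧
      (∀ σ τ, Matrix.ProjGenLinGroup.mk (R σ) * Matrix.ProjGenLinGroup.mk (R τ) =
        Matrix.ProjGenLinGroup.mk (R (σ * τ))) ∧
      ∀ (σ : N ≃ₐ[E] N) X, (j X).map σ =
        blockMat n ((algebraMap K N).comp (algebraMap k K)) ((R σ)⁻¹ : GL (Fin r) k) * j X *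
          blockMat n ((algebraMap K N).comp (algebraMap k K)) (R σ : Matrix (Fin r) (Fin r) k) := by
  classical
  obtain ⟨N, fN, aKN, aEN, tN, fdN, gN, n, f, Q, hn, hD, hdet, hQ⟩ :=
    (haveI : CharZero K := charZero_of_injective_algebraMap (algebraMap k K).injective
     exists_normalized (K := K) (E := E) (D := D))
  haveI : FiniteDimensional E N := Module.Finite.of_restrictScalars_finite K E N
  haveI : IsGalois E N := IsGalois.tower_top_of_isGalois K E N
  haveI : NeZero n := ⟨hn⟩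
  let φ : k →+* N := (algebraMap K N).comp (algebraMap k K)
  have hφσ : ∀ (σ : N ≃ₐ[E] N) (x : k), σ (φ x) = φ x := fun σ x => by
    show σ (algebraMap K N (algebraMap k K x)) = _
    rw [IsScalarTower.algebraMap_apply K E N, σ.commutes]
    exact (IsScalarTower.algebraMap_apply K E N _).symm
  -- the cocycle
  have hc : ∀ σ τ : N ≃ₐ[E] N, ∃ c : kˣ,
      (Q σ : Matrix (Fin n) (Fin n) N) * (Q τ : Matrix (Fin n) (Fin n) N).map σ =
        φ c • (Q (σ * τ) : Matrix (Fin n) (Fin n) N) := by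
    intro σ τ
    let sQ : (Matrix (Fin n) (Fin n) N)ˣ := Units.map (σ : N →+* N).mapMatrix.toMonoidHom (Q τ)
    let C := Q σ * sQ * (Q (σ * τ))⁻¹
    have hcomm : ∀ x, Commute (C : Matrix (Fin n) (Fin n) N) (f x) := by
      intro x
      have h1 : (f x).map (σ * τ : N ≃ₐ[E] N) = ((f x).map τ).map σ := by
        rw [Matrix.map_map]
        rfl
      rw [hQ τ x, Matrix.map_mul, Matrix.map_mul, hQ σ x, hQ (σ * τ) x] at h1
      change _ = ((sQ⁻¹ : (Matrix (Fin n) (Fin n) N)ˣ) : Matrix (Fin n) (Fin n) N) * _ * (sQ : Matrix (Fin n) (Fin n) N) at h1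
      show (C : Matrix (Fin n) (Fin n) N) * f x = f x * (C : Matrix (Fin n) (Fin n) N)
      have h2 := congrArg (fun A => (Q σ : Matrix (Fin n) (Fin n) N) * sQ * A * ((Q (σ * τ))⁻¹ : (Matrix (Fin n) (Fin n) N)ˣ)) h1
      simpa [C, mul_assoc] using h2
    obtain ⟨c, hc⟩ := mem_scalar_of_commute hn hD f _ hcomm
    have hcn : c ^ n = 1 := by
      have := congrArg Matrix.det hc
      rw [Matrix.scalar_apply, Matrix.det_diagonal, Finset.prod_const, Finset.card_univ, Fintype.card_fin] at this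
      rw [this]
      have h2 : ((Q (σ * τ))⁻¹ : (Matrix (Fin n) (Fin n) N)ˣ).val.det = 1 := by
        have h3 := congrArg Matrix.det (Q (σ * τ)).mul_inv
        rwa [Matrix.det_mul, hdet, one_mul, Matrix.det_one] at h3
      simp only [C, Units.val_mul, Matrix.det_mul, hdet, one_mul, h2, mul_one]
      show ((Q τ : Matrix (Fin n) (Fin n) N).map σ).det = 1
      exact ((σ : N →+* N).map_det _).symm.trans (by rw [hdet, map_one])
    obtain ⟨c₀, hc₀⟩ : ∃ c₀ : k, φ c₀ = c := by
      have hroot : (Polynomial.X ^ n - 1 : Polynomial k).map φ ≠ 0 := by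
        rw [Polynomial.map_sub, Polynomial.map_pow, Polynomial.map_X, Polynomial.map_one]
        exact (Polynomial.monic_X_pow_sub_C (1 : N) hn).ne_zero
      have := Polynomial.Splits.mem_range_of_isRoot
        (IsAlgClosed.splits (Polynomial.X ^ n - 1 : Polynomial k)) (i := φ) (x := c) ?_ ?_
      · exact this
      · exact fun h0 => hroot (by rw [h0, Polynomial.map_zero])
      · simp [Polynomial.IsRoot, hcn]
    have hc0 : c₀ ≠ 0 := by
      intro h0
      rw [← hc₀, h0, map_zero, zero_pow hn] at hcn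
      exact zero_ne_one hcn
    refine ⟨Units.mk0 c₀ hc0, ?_⟩
    show (Q σ : Matrix (Fin n) (Fin n) N) * (sQ : Matrix (Fin n) (Fin n) N) = φ c₀ • _
    rw [hc₀]
    have : (C : Matrix (Fin n) (Fin n) N) * Q (σ * τ) = (Q σ : Matrix (Fin n) (Fin n) N) * sQ := by
      simp [C, mul_assoc]
    rw [← this, ← hc, Matrix.scalar_apply, ← Matrix.smul_eq_diagonal_mul]
  choose c hc using hc
  have hcoc : ∀ σ τ ρ : N ≃ₐ[E] N, (c σ τ : k) * c (σ * τ) ρ = c τ ρ * c σ (τ * ρ) := by
    intro σ τ ρ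
    apply φ.injective
    rw [map_mul, map_mul]
    refine smul_left_injective N (Q (σ * τ * ρ)).ne_zero ?_
    show (φ (c σ τ) * φ (c (σ * τ) ρ)) • (Q (σ * τ * ρ) : Matrix (Fin n) (Fin n) N) =
      (φ (c τ ρ) * φ (c σ (τ * ρ))) • (Q (σ * τ * ρ) : Matrix (Fin n) (Fin n) N)
    rw [mul_smul, ← hc, mul_smul, mul_assoc σ τ ρ, ← hc σ (τ * ρ), ← Matrix.smul_mul, ← hc σ τ, ← Matrix.mul_smul]
    have h1 : φ (c τ ρ) • (Q (τ * ρ) : Matrix (Fin n) (Fin n) N).map σ =
        ((Q τ : Matrix (Fin n) (Fin n) N) * (Q ρ : Matrix (Fin n) (Fin n) N).map τ).map σ := by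
      rw [hc τ ρ]
      ext a b
      simp [hφσ]
    rw [h1, Matrix.map_mul, Matrix.map_map, mul_assoc]
    rfl
  -- indices
  let r := finrank E N
  have hcard : Fintype.card (N ≃ₐ[E] N) = r := by
    rw [← Nat.card_eq_fintype_card, IsGalois.card_aut_eq_finrank]
  let e : Fin r ≃ (N ≃ₐ[E] N) := (Fintype.equivFinOfCardEq hcard).symm
  let θ : Basis (Fin r) E N := Module.finBasis E N
  have hr : r ≠ 0 := (Module.finrank_pos (R := E) (M := N)).ne'
  -- the twisted permutation matrices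
  let R₀ : (N ≃ₐ[E] N) → Matrix (Fin r) (Fin r) k := fun σ =>
    Matrix.of fun a b => if e a = σ * e b then (c σ (e b) : k) else 0
  have hR₀col : ∀ (σ : N ≃ₐ[E] N) (b : Fin r) (v : Fin r → k),
      ∑ a, v a * R₀ σ a b = v (e.symm (σ * e b)) * c σ (e b) := by
    intro σ b v
    simp [R₀, Equiv.eq_symm_apply, ← Equiv.eq_symm_apply]
  have hR₀ : ∀ σ τ, R₀ σ * R₀ τ = (c σ τ : k) • R₀ (σ * τ) := by
    intro σ τ
    ext a b
    rw [Matrix.mul_apply, hR₀col τ b (fun x => R₀ σ a x)]
    simp only [R₀, Matrix.of_apply, Matrix.smul_apply, Equiv.apply_symm_apply, smul_eq_mul, mul_assoc σ τ]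
    split_ifs
    · rw [hcoc σ τ (e b), mul_comm]
    · simp
  have hR₀1 : IsUnit (R₀ 1) := by
    have : R₀ 1 = Matrix.diagonal fun b => (c 1 (e b) : k) := by
      ext a b
      simp only [R₀, Matrix.of_apply, one_mul, EmbeddingLike.apply_eq_iff_eq, Matrix.diagonal_apply]
      split_ifs with h
      · rw [h]
      · rfl
    rw [this, Matrix.isUnit_diagonal]
    exact isUnit_iff_exists.2 ⟨fun b => ((c 1 (e b))⁻¹ : kˣ), funext fun b => (c 1 (e b)).mul_inv,
      funext fun b => (c 1 (e b)).inv_mul⟩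
  have hR₀u : ∀ σ, IsUnit (R₀ σ) := by
    intro σ
    rw [Matrix.isUnit_iff_isUnit_det]
    refine isUnit_of_mul_isUnit_left (y := (R₀ σ⁻¹).det) ?_
    rw [← Matrix.det_mul, hR₀, mul_inv_cancel, Matrix.det_smul]
    exact ((c σ σ⁻¹).isUnit.pow _).mul ((Matrix.isUnit_iff_isUnit_det _).1 hR₀1)
  let R : (N ≃ₐ[E] N) → GL (Fin r) k := fun σ => (hR₀u σ).unit
  -- the change of basis
  let Θ : Matrix (Fin r) (Fin r) N := Matrix.of fun j t => e t (θ j)
  have hΘ : IsUnit Θ := isUnit_embeddingMatrix θ e e.injective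
  let B : Matrix (Fin n × Fin r) (Fin n × Fin r) N :=
    Matrix.blockDiagonal fun t => (Q (e t) : Matrix (Fin n) (Fin n) N)
  have hB : IsUnit B := by
    rw [Matrix.isUnit_iff_isUnit_det, Matrix.det_blockDiagonal]
    simp [hdet]
  have h1Θ : IsUnit ((1 : Matrix (Fin n) (Fin n) N) ⊗ₖ Θ) := by
    rw [Matrix.isUnit_iff_isUnit_det, Matrix.det_kronecker]
    rw [Matrix.det_one, one_pow, one_mul]
    exact ((Matrix.isUnit_iff_isUnit_det _).1 hΘ).pow _
  let U : (Matrix (Fin n × Fin r) (Fin n × Fin r) N)ˣ := (h1Θ.mul hB).unit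
  have hUapp : ∀ a j b t, (U : Matrix (Fin n × Fin r) (Fin n × Fin r) N) (a, j) (b, t) =
      (Q (e t) : Matrix (Fin n) (Fin n) N) a b * e t (θ j) := by
    intro a j b t
    show (((1 : Matrix (Fin n) (Fin n) N) ⊗ₖ Θ) * B) (a, j) (b, t) = _
    simp [Matrix.mul_apply, Fintype.sum_prod_type, B, Θ, Matrix.blockDiagonal_apply, Matrix.one_apply, mul_comm]
  let qmap : Matrix (Fin n) (Fin n) N →* Matrix (Fin n × Fin r) (Fin n × Fin r) N :=
    { toFun := fun A => A ⊗ₖ (1 : Matrix (Fin r) (Fin r) N)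
      map_one' := Matrix.one_kronecker_one
      map_mul' := fun A A' => by rw [← Matrix.mul_kronecker_mul, one_mul] }
  let sU : (N ≃ₐ[E] N) → (Matrix (Fin n × Fin r) (Fin n × Fin r) N)ˣ := fun σ =>
    Units.map (σ : N →+* N).mapMatrix.toMonoidHom U
  have hkey : ∀ σ, Units.map qmap (Q σ) * sU σ = U * Units.map (blockMat n φ) (R σ) := by
    intro σ
    refine Units.ext ?_
    ext ⟨a, j⟩ ⟨b, t⟩
    show ((Q σ : Matrix (Fin n) (Fin n) N) ⊗ₖ (1 : Matrix (Fin r) (Fin r) N) *
        (U : Matrix (Fin n × Fin r) (Fin n × Fin r) N).map σ) (a, j) (b, t) =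
      ((U : Matrix (Fin n × Fin r) (Fin n × Fin r) N) * blockMat n φ (R₀ σ)) (a, j) (b, t)
    have hc' := congrFun (congrFun (hc σ (e t)) a) b
    simp only [Matrix.mul_apply, Matrix.map_apply, Matrix.smul_apply, smul_eq_mul] at hc'
    simp only [Matrix.mul_apply, Fintype.sum_prod_type, Matrix.kroneckerMap_apply, Matrix.map_apply, hUapp,
      Matrix.one_apply, blockMat, MonoidHom.coe_mk, OneHom.coe_mk, map_mul, R₀, Matrix.of_apply]
    rw [Finset.sum_comm, Finset.sum_eq_single j, Finset.sum_comm, Finset.sum_eq_single (e.symm (σ * e t))]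
    · simp only [Equiv.apply_symm_apply, if_true, mul_one, ← AlgEquiv.mul_apply, ite_mul, zero_mul, one_mul,
        mul_ite, mul_zero, Finset.sum_ite_eq', Finset.mem_univ]
      simp only [← mul_assoc, ← Finset.sum_mul, hc']
      ring
    · intro t' _ ht'
      have : e t' ≠ σ * e t := fun h => ht' (by rw [← h, Equiv.symm_apply_apply])
      simp [this]
    · simp
    · intro j' _ hj'
      simp [Ne.symm hj']
    · simp
  -- the embedding
  let j₀ : Matrix (Fin r) (Fin r) D →ₐ[E] Matrix (Fin n × Fin r) (Fin n × Fin r) N :=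
    (Matrix.reindexAlgEquiv E N (Equiv.prodComm (Fin r) (Fin n))).toAlgHom.comp
      ((Matrix.compAlgEquiv (Fin r) (Fin n) N E).toAlgHom.comp f.mapMatrix)
  have hj₀ : ∀ (σ : N ≃ₐ[E] N) X, (j₀ X).map σ =
      ((Units.map qmap (Q σ))⁻¹ : (Matrix (Fin n × Fin r) (Fin n × Fin r) N)ˣ) * j₀ X * Units.map qmap (Q σ) := by
    intro σ X
    rw [← map_inv]
    ext ⟨a, i⟩ ⟨b, i'⟩
    have h := congrFun (congrFun (hQ σ (X i i')) a) b
    simp only [Matrix.map_apply, Matrix.mul_apply] at h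
    show σ ((j₀ X) (a, i) (b, i')) = _
    show σ (f (X i i') a b) = _
    rw [h, Units.coe_map, Units.coe_map]
    simp only [qmap, MonoidHom.coe_mk, OneHom.coe_mk, Matrix.mul_apply, Fintype.sum_prod_type,
      Matrix.kroneckerMap_apply, Matrix.one_apply]
    simp only [mul_ite, mul_one, mul_zero, ite_mul, zero_mul, Finset.sum_ite_eq, Finset.sum_ite_eq',
      Finset.mem_univ, if_true]
    rfl
  refine ⟨N, fN, aKN, aEN, tN, fdN, gN, n, r, R, (conjHom U).comp j₀, hn, hr, hD, fun σ τ => ?_, fun σ X => ?_⟩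
  · rw [← map_mul]
    have : R σ * R τ = Units.map (Matrix.scalar (Fin r) : k →+* _).toMonoidHom (c σ τ) * R (σ * τ) := by
      refine Units.ext ?_
      show R₀ σ * R₀ τ = Matrix.scalar (Fin r) (c σ τ : k) * R₀ (σ * τ)
      rw [hR₀, Matrix.scalar_apply, Matrix.smul_eq_diagonal_mul]
    rw [this, map_mul]
    convert one_mul _
    rw [Matrix.ProjGenLinGroup.mk_eq_one]
    exact Subgroup.mem_center_iff.2 fun g => Units.ext ((Matrix.scalar_commute _ (fun x => Commute.all _ x) _).eq.symm)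
  · have hmap : ∀ A B : Matrix (Fin n × Fin r) (Fin n × Fin r) N,
        (A * B).map σ = A.map σ * B.map σ := fun A B => map_mul (σ : N →+* N).mapMatrix A B
    show (((U⁻¹ : (Matrix (Fin n × Fin r) (Fin n × Fin r) N)ˣ) : Matrix (Fin n × Fin r) (Fin n × Fin r) N) * j₀ X *
        (U : Matrix (Fin n × Fin r) (Fin n × Fin r) N)).map σ =
      ((Units.map (blockMat n φ) (R σ)⁻¹ : (Matrix (Fin n × Fin r) (Fin n × Fin r) N)ˣ) : Matrix (Fin n × Fin r) (Fin n × Fin r) N) * _ *
        ((Units.map (blockMat n φ) (R σ) : (Matrix (Fin n × Fin r) (Fin n × Fin r) N)ˣ) : Matrix (Fin n × Fin r) (Fin n × Fin r) N)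
    rw [hmap, hmap, hj₀]
    show ((sU σ)⁻¹ : (Matrix (Fin n × Fin r) (Fin n × Fin r) N)ˣ).val * _ * (sU σ).val =
      _ * (((U⁻¹ : (Matrix (Fin n × Fin r) (Fin n × Fin r) N)ˣ) : Matrix (Fin n × Fin r) (Fin n × Fin r) N) * j₀ X * (U : Matrix (Fin n × Fin r) (Fin n × Fin r) N)) * _
    have h2 : sU σ = (Units.map qmap (Q σ))⁻¹ * (U * Units.map (blockMat n φ) (R σ)) := by
      rw [← hkey, inv_mul_cancel_left]
    rw [h2, map_inv]
    generalize Units.map qmap (Q σ) = q
    generalize Units.map (blockMat n φ) (R σ) = w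
    simp [mul_assoc]

end

end Groth.Agent.H13x26
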