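import Groth.Agent.H13x26.Constant
import Mathlib.AlgebraicGeometry.Sites.Etale
import Mathlib.RingTheory.Etale.Field
import Mathlib.LinearAlgebra.Matrix.NonsingularInverse
import Mathlib.FieldTheory.Galois.Basic

/-!
# The torsor of a finite Galois extension under the constant Galois group
-/

set_option autoImplicit false
universe u
open CategoryTheory CategoryTheory.Limits MonoidalCategory CartesianMonoidalCategory MonObj GrpObj AlgebraicGeometry
open scoped TensorProduct

namespace Groth.Agent.H13x26

noncomputable section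

/-- The matrix of values of a family of distinct embeddings on a basis is invertible. -/
theorem isUnit_embeddingMatrix {K N : Type u} [Field K] [Field N] [Algebra K N] {J : Type*} [Fintype J]
    [DecidableEq J] (θ : Module.Basis J K N) (σ : J → N ≃ₐ[K] N) (hσ : Function.Injective σ) :
    IsUnit (Matrix.of fun j i => σ i (θ j) : Matrix J J N) := by
  rw [← Matrix.mulVec_injective_iff_isUnit]
  intro v w h
  have hli : LinearIndependent N (fun i => ((σ i).toAlgHom.toLinearMap : N →ₗ[K] N)) :=
    (linearIndependent_toLinearMap K N N).comp (fun i => (σ i).toAlgHom)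
      (fun a b hab => hσ (AlgEquiv.coe_toAlgHom_injective hab))
  have h0 : ∑ i, (v i - w i) • ((σ i).toAlgHom.toLinearMap : N →ₗ[K] N) = 0 := by
    refine θ.ext fun j => ?_
    have := congrFun h j
    simp only [Matrix.mulVec, dotProduct, Matrix.of_apply] at this
    simp [sub_mul, Finset.sum_sub_distrib, mul_comm (v _), mul_comm (w _), this]
  funext i
  exact sub_eq_zero.1 (Fintype.linearIndependent_iff.1 hli _ h0 i)

variable (k K N : Type u) [Field k] [Field K] [Field N] [Algebra k K] [Algebra K N] [FiniteDimensional K N]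
  [IsGalois K N] {G : Type} [Group G] [Fintype G] [DecidableEq G] (e : G ≃* (N ≃ₐ[K] N))

/-- `Spec N` over `Spec K`. -/
abbrev specOver : Over (Spec (CommRingCat.of K)) := Over.mk (Spec.map (CommRingCat.ofHom (algebraMap K N)))

/-- The automorphism of `Spec N` of index `g`. -/
def galEnd (g : G) : specOver K N ⟶ specOver K N :=
  Over.homMk (Spec.map (CommRingCat.ofHom (e g⁻¹).toAlgHom.toRingHom)) (by
    refine (Spec.map_comp _ _).symm.trans ?_
    congr 1
    exact CommRingCat.hom_ext (RingHom.ext fun x => (e g⁻¹).commutes x))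

theorem galEnd_one : galEnd K N e 1 = 𝟙 _ := by
  refine Over.OverMorphism.ext ?_
  have h : (e (1 : G)⁻¹).toAlgHom.toRingHom = RingHom.id N := by
    refine RingHom.ext fun x => ?_
    simp
  show Spec.map _ = 𝟙 _
  rw [h, CommRingCat.ofHom_id, Spec.map_id]

theorem galEnd_comp (g h : G) : galEnd K N e g ≫ galEnd K N e h = galEnd K N e (h * g) := by
  refine Over.OverMorphism.ext ?_
  show Spec.map _ ≫ Spec.map _ = Spec.map _
  rw [← Spec.map_comp, ← CommRingCat.ofHom_comp]
  congr 2
  refine RingHom.ext fun x => ?_
  simp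

/-- The Galois action of the constant group on `Spec N`. -/
def galAction :
    AlgGrp.Action (Red.bc (Spec.map (CommRingCat.ofHom (algebraMap k K))) (cst k G)) (specOver K N) :=
  mkAction k _ (galEnd K N e) (galEnd_one K N e) (galEnd_comp K N e)

theorem endo_galAction (g : G) : endo k _ (galAction k K N e) g = galEnd K N e g :=
  endo_mkAction k _ _ _ _ g

/-- `n ⊗ m ↦ (g ↦ g⁻¹(n) m)`. -/
def galSplit : N ⊗[K] N →ₐ[K] (G → N) :=
  Algebra.TensorProduct.lift (Pi.algHom K (fun _ : G => N) fun g => (e g⁻¹).toAlgHom)
    (Pi.algHom K (fun _ : G => N) fun _ => AlgHom.id K N) fun _ _ => Commute.all _ _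

theorem galSplit_tmul (a c : N) (g : G) : galSplit K N e (a ⊗ₜ c) g = e g⁻¹ a * c := by
  simp [galSplit]

theorem galSplit_bijective : Function.Bijective (galSplit K N e) := by
  classical
  have hcard : Fintype.card G = Module.finrank K N := by
    rw [← IsGalois.card_aut_eq_finrank K N, ← Nat.card_eq_fintype_card, Nat.card_congr e.toEquiv]
  let θ : Module.Basis G K N := (Module.finBasis K N).reindex
    ((Fintype.equivFinOfCardEq hcard).symm)
  have hsurj : Function.Surjective (galSplit K N e) := by
    intro y
    have hu := isUnit_embeddingMatrix θ (fun g => e g⁻¹) (e.injective.comp inv_injective)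
    have hu' : IsUnit (Matrix.of fun g j => e g⁻¹ (θ j) : Matrix G G N) := by
      have := (Matrix.isUnit_transpose _).2 hu
      convert! this using 1
    obtain ⟨x, hx⟩ := (Matrix.mulVec_surjective_iff_isUnit.2 hu') y
    refine ⟨∑ j, θ j ⊗ₜ[K] x j, ?_⟩
    funext g
    rw [map_sum, Finset.sum_apply, ← hx]
    simp [Matrix.mulVec, dotProduct, galSplit_tmul]
  refine ⟨(LinearMap.injective_iff_surjective_of_finrank_eq_finrank (f := (galSplit K N e).toLinearMap) ?_).2 hsurj,
    hsurj⟩
  rw [Module.finrank_tensorProduct, Module.finrank_pi_fintype]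
  simp [hcard]

theorem isPseudoTorsorSch_galAction : NonAbH1.IsPseudoTorsorSch (galAction k K N e) := by
  let b := Spec.map (CommRingCat.ofHom (algebraMap k K))
  let X := specOver K N
  let w := lift (galAction k K N e).act (snd (Red.bc b (cst k G)) X)
  haveI hD : IsIso (Sigma.desc (fun g : G => (comp k b g X).left)) := isIso_sigmaDesc_comp k G b X
  haveI hΦ : IsIso (CommRingCat.ofHom (galSplit K N e).toRingHom) :=
    inferInstanceAs (IsIso (RingEquiv.ofBijective (galSplit K N e).toRingHom (galSplit_bijective K N e)).toCommRingCatIso.hom)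
  haveI hΦ' : IsIso (Spec.map (CommRingCat.ofHom (galSplit K N e).toRingHom)) :=
    inferInstanceAs (IsIso (Scheme.Spec.map (CommRingCat.ofHom (galSplit K N e).toRingHom).op))
  haveI hev := isIso_sigmaDesc_eval G N
  have key : Sigma.desc (fun g : G => (comp k b g X).left) ≫ w.left ≫ (pullbackSpecIso K N N).hom =
      Sigma.desc (fun g : G => Spec.map (CommRingCat.ofHom (Pi.evalRingHom (fun _ : G => N) g))) ≫
        Spec.map (CommRingCat.ofHom (galSplit K N e).toRingHom) := by
    refine Sigma.hom_ext _ _ fun g => ?_
    rw [Sigma.ι_desc_assoc, Sigma.ι_desc_assoc, ← Spec.map_comp, ← CommRingCat.ofHom_comp]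
    have hc : comp k b g X ≫ w = lift (galEnd K N e g) (𝟙 X) := by
      rw [comp_lift, comp_snd, ← endo_galAction k K N e g]
      rfl
    refine (Category.assoc _ _ _).symm.trans ?_
    refine (congrArg (· ≫ _) (congrArg (·.left) hc)).trans ?_
    show pullback.lift (f := Spec.map (CommRingCat.ofHom (algebraMap K N)))
      (g := Spec.map (CommRingCat.ofHom (algebraMap K N))) (galEnd K N e g).left (𝟙 _)
      ((Over.w (galEnd K N e g)).trans (Category.id_comp _).symm) ≫ _ = _
    rw [← Iso.eq_comp_inv]
    apply pullback.hom_ext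
    · rw [Category.assoc, pullbackSpecIso_inv_fst, ← Spec.map_comp, ← CommRingCat.ofHom_comp, pullback.lift_fst]
      show Spec.map _ = Spec.map _
      congr 2
      ext x
      simp [galSplit_tmul]
    · rw [Category.assoc, pullbackSpecIso_inv_snd, ← Spec.map_comp, ← CommRingCat.ofHom_comp, pullback.lift_snd]
      refine (Spec.map_id (CommRingCat.of N)).symm.trans ?_
      rw [← CommRingCat.ofHom_id]
      congr 2
      ext x
      simp [galSplit_tmul]
  have h1 : IsIso (Sigma.desc (fun g : G => (comp k b g X).left) ≫ w.left ≫ (pullbackSpecIso K N N).hom) :=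
    key ▸ inferInstance
  haveI h2 : IsIso (w.left ≫ (pullbackSpecIso K N N).hom) :=
    IsIso.of_isIso_comp_left (Sigma.desc (fun g : G => (comp k b g X).left)) _
  haveI h3 : IsIso w.left := IsIso.of_isIso_comp_right w.left (pullbackSpecIso K N N).hom
  haveI : IsIso ((Over.forget _).map w) := h3
  exact isIso_of_reflects_iso w (Over.forget _)

theorem isLocallyTrivial_specOver : NonAbH1.IsLocallyTrivialFor Scheme.etalePrecoverage (specOver K N) := by
  refine ⟨Presieve.singleton (Spec.map (CommRingCat.ofHom (algebraMap K N))), ?_, ?_⟩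
  · rw [Scheme.etalePrecoverage, Scheme.singleton_mem_precoverage_iff]
    refine ⟨fun y => ⟨Classical.arbitrary _, Subsingleton.elim _ _⟩, ?_⟩
    rw [HasRingHomProperty.Spec_iff (P := @Etale)]
    simp only [CommRingCat.hom_ofHom, RingHom.etale_algebraMap]
    haveI : Algebra.IsSeparable K N := IsGalois.to_isSeparable
    haveI := (Algebra.FormallyEtale.iff_isSeparable K N).2 inferInstance
    exact ⟨inferInstance, Algebra.FinitePresentation.of_finiteType.1 inferInstance⟩
  · rintro S' f ⟨⟩
    exact ⟨𝟙 _, Category.id_comp _⟩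

/-- The torsor of a finite Galois extension. -/
def galTorsor : NonAbH1.TorsorSch (Red.bc (Spec.map (CommRingCat.ofHom (algebraMap k K))) (cst k G))
    Scheme.etalePrecoverage :=
  ⟨specOver K N, galAction k K N e, isPseudoTorsorSch_galAction k K N e, isLocallyTrivial_specOver K N⟩

omit [Group G] [DecidableEq G] in
theorem isFinite_cst : IsFinite (cst k G).hom := by
  show IsFinite (Spec.map (CommRingCat.ofHom (algebraMap k (ConstGrp.F k G))))
  rw [IsFinite.SpecMap_iff]
  simpa [RingHom.finite_algebraMap] using ConstGrp.instFinite k G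

end

end Groth.Agent.H13x26
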