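import Groth.Agent.H13x26.Points
import Groth.Agent.H13x26.GalTorsor
import Groth.Agent.Csa25.Splitting

/-!
# The homomorphism attached to a torsor of essential dimension one
-/

set_option autoImplicit false
universe u
open CategoryTheory CategoryTheory.Limits MonoidalCategory CartesianMonoidalCategory MonObj GrpObj AlgebraicGeometry

namespace Groth.Agent.H13x26

noncomputable section

/-- A locally trivial scheme over a field of characteristic zero has a point in a finite Galois extension. -/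
theorem exists_galois_point {F : Type u} [Field F] [CharZero F] (X : Over (Spec (CommRingCat.of F)))
    (hX : NonAbH1.IsLocallyTrivialFor Scheme.etalePrecoverage X) :
    ∃ (N : Type u) (_ : Field N) (_ : Algebra F N) (_ : FiniteDimensional F N) (_ : IsGalois F N),
      Nonempty (Over.mk (Spec.map (CommRingCat.ofHom (algebraMap F N))) ⟶ X) := by
  obtain ⟨R, hR, hsec⟩ := hX
  obtain ⟨S', f, hf, hne, het⟩ : ∃ (S' : Scheme.{u}) (f : S' ⟶ Spec (CommRingCat.of F)), R f ∧ Nonempty S' ∧ Etale f := by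
    obtain ⟨h1, h2⟩ := hR
    obtain ⟨_, _, ⟨hf⟩, x, hx⟩ := h1 ((⊥ : PrimeSpectrum F) : (Spec (CommRingCat.of F) : Scheme.{u}))
    exact ⟨_, _, hf, ⟨x⟩, h2 hf⟩
  obtain ⟨s, hs⟩ := hsec f hf
  haveI := hne
  haveI := het
  haveI : JacobsonSpace S' := LocallyOfFiniteType.jacobsonSpace f
  obtain ⟨x, -, hx⟩ :=
    nonempty_inter_closedPoints Set.univ_nonempty (isOpen_univ (X := S')).isLocallyClosed
  rw [mem_closedPoints_iff] at hx
  have hfin : IsFinite (S'.fromSpecResidueField x ≫ f) := by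
    rw [isClosed_singleton_iff_isClosedImmersion] at hx
    rw [isFinite_iff_locallyOfFiniteType_of_jacobsonSpace]
    infer_instance
  let φ := Spec.preimage (S'.fromSpecResidueField x ≫ f)
  have hφ : φ.hom.Finite := by
    rw [← IsFinite.SpecMap_iff, Spec.map_preimage]
    exact hfin
  letI := φ.hom.toAlgebra
  haveI : FiniteDimensional F (S'.residueField x) := hφ
  obtain ⟨N, hNfin, hNgal, ⟨emb⟩⟩ := Csa25.exists_galois_of_separable (k := F) (S'.residueField x)
  refine ⟨N, inferInstance, inferInstance, hNfin, hNgal,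
    ⟨Over.homMk ((Spec.map (CommRingCat.ofHom emb.toRingHom) ≫ S'.fromSpecResidueField x) ≫ s) ?_⟩⟩
  rw [Category.assoc, hs, Category.assoc, ← Spec.map_preimage (S'.fromSpecResidueField x ≫ f)]
  refine (Spec.map_comp _ _).symm.trans (congrArg Spec.map (?_ : _ = CommRingCat.ofHom (algebraMap F N)))
  ext c
  exact congrArg Subtype.val (emb.commutes c)

variable (k K N : Type u) [Field k] [CharZero k] [Field K] [Field N] [Algebra k K] [Algebra K N]
  [FiniteDimensional K N] [IsGalois K N] {G : Type} [Group G] [Fintype G] [DecidableEq G]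
  (e : G ≃* (N ≃ₐ[K] N)) {L L₀ : Type u} [Field L] [Algebra K L] [Field L₀] [Algebra k L₀] [Algebra L₀ L]

/-- If the torsor of `N/K` comes, over `L`, from a torsor over `L₀`, then over any algebraically closed field
containing `L` the Galois action on `N` factors through a homomorphism on a finite Galois extension of `L₀`. -/
theorem exists_hom_data
    (hc : Spec.map (CommRingCat.ofHom (algebraMap L₀ L)) ≫ Spec.map (CommRingCat.ofHom (algebraMap k L₀)) =
      Spec.map (CommRingCat.ofHom (algebraMap K L)) ≫ Spec.map (CommRingCat.ofHom (algebraMap k K)))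
    (c₀ : NonAbH1.TorsorSch (Red.bc (Spec.map (CommRingCat.ofHom (algebraMap k L₀))) (cst k G))
      Scheme.etalePrecoverage)
    (E : NonAbH1.EquivIso
      ((c₀.act.bc (Spec.map (CommRingCat.ofHom (algebraMap L₀ L)))).restrict
        (ActBC.bcCompIso (Spec.map (CommRingCat.ofHom (algebraMap L₀ L)))
          (Spec.map (CommRingCat.ofHom (algebraMap k L₀))) (cst k G) hc).inv)
      (((galTorsor k K N e).act.bc (Spec.map (CommRingCat.ofHom (algebraMap K L)))).restrict
        (ActBC.bcCompIso (Spec.map (CommRingCat.ofHom (algebraMap K L)))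
          (Spec.map (CommRingCat.ofHom (algebraMap k K))) (cst k G) rfl).inv))
    (Ω : Type u) [Field Ω] [IsAlgClosed Ω] [Algebra K Ω] [Algebra L Ω] [IsScalarTower K L Ω]
    (ι₁ : N →ₐ[K] Ω) :
    ∃ (N₀ : Type u) (_ : Field N₀) (_ : Algebra L₀ N₀) (_ : FiniteDimensional L₀ N₀) (_ : IsGalois L₀ N₀)
      (j : N₀ →+* Ω) (a : (N₀ ≃ₐ[L₀] N₀) →* G),
      (∀ c : L₀, j (algebraMap L₀ N₀ c) = algebraMap L Ω (algebraMap L₀ L c)) ∧
      ∀ (σ : Ω ≃+* Ω), (∀ c : L, σ (algebraMap L Ω c) = algebraMap L Ω c) →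
        ∀ h : G, (∀ x, σ (ι₁ x) = ι₁ (e h x)) →
          ∀ τ : N₀ ≃ₐ[L₀] N₀, (∀ x, σ (j x) = j (τ x)) → a τ = h := by
  let b₀ := Spec.map (CommRingCat.ofHom (algebraMap k L₀))
  let bK := Spec.map (CommRingCat.ofHom (algebraMap k K))
  let f₀ := Spec.map (CommRingCat.ofHom (algebraMap L₀ L))
  let fK := Spec.map (CommRingCat.ofHom (algebraMap K L))
  let sL := Spec.map (CommRingCat.ofHom (algebraMap L Ω))
  let X := specOver K N
  haveI : CharZero L₀ := charZero_of_injective_algebraMap (algebraMap k L₀).injective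
  -- the point of `Spec N`
  have hι : Spec.map (CommRingCat.ofHom ι₁.toRingHom) ≫ X.hom = sL ≫ fK := by
    refine (Spec.map_comp _ _).symm.trans ((congrArg Spec.map ?_).trans (Spec.map_comp _ _))
    ext c
    exact (ι₁.commutes c).trans (IsScalarTower.algebraMap_apply K L Ω c)
  -- the morphism to `c₀`
  let ψ : pullback X.hom fK ⟶ c₀.X.left := E.iso.inv.left ≫ pullback.fst c₀.X.hom f₀
  have hψ : ψ ≫ c₀.X.hom = pullback.snd X.hom fK ≫ f₀ := by
    have h1 : pullback.fst c₀.X.hom f₀ ≫ c₀.X.hom = pullback.snd c₀.X.hom f₀ ≫ f₀ := pullback.condition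
    refine (Category.assoc _ _ _).trans ((congrArg (E.iso.inv.left ≫ ·) h1).trans ?_)
    exact (Category.assoc _ _ _).symm.trans (congrArg (· ≫ f₀) (Over.w E.iso.inv))
  have hcomm : ∀ g : G, ((Over.pullback fK).map (endo k bK (galTorsor k K N e).act g)).left ≫ ψ =
      ψ ≫ (endo k b₀ c₀.act g).left := by
    intro g
    have h1 := endo_equivIso k _ E g
    rw [endo_bc k b₀ f₀ _ hc, endo_bc k bK fK _ rfl] at h1
    have h2 : (Over.pullback fK).map (endo k bK (galTorsor k K N e).act g) ≫ E.iso.inv =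
        E.iso.inv ≫ (Over.pullback f₀).map (endo k b₀ c₀.act g) := by
      rw [Iso.comp_inv_eq, Category.assoc, h1, Iso.inv_hom_id_assoc]
    refine ((Category.assoc _ _ _).symm.trans (congrArg (fun m => Over.Hom.left m ≫ pullback.fst c₀.X.hom f₀) h2)).trans ?_
    refine (Category.assoc _ _ _).trans ((congrArg (E.iso.inv.left ≫ ·) (ActBC.pullback_map_left_fst f₀ _)).trans ?_)
    exact (Category.assoc _ _ _).symm
  -- transported point
  let p : Spec (CommRingCat.of Ω) ⟶ c₀.X.left :=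
    pullback.lift (f := X.hom) (g := fK) (Spec.map (CommRingCat.ofHom ι₁.toRingHom)) sL hι ≫ ψ
  have hp : p ≫ c₀.X.hom = sL ≫ f₀ := by
    rw [Category.assoc, hψ, pullback.lift_snd_assoc]
  -- a Galois point
  obtain ⟨N₀, fN, aN, fdN, gN, ⟨y₁⟩⟩ := exists_galois_point c₀.X c₀.isTorsor.2
  letI : Algebra L₀ Ω := ((algebraMap L Ω).comp (algebraMap L₀ L)).toAlgebra
  let j₀ : N₀ →ₐ[L₀] Ω := IsAlgClosed.lift
  let s₀ := Spec.map (CommRingCat.ofHom (algebraMap L₀ N₀))
  have hj : Spec.map (CommRingCat.ofHom j₀.toRingHom) ≫ s₀ = sL ≫ f₀ := by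
    rw [← Spec.map_comp, ← Spec.map_comp]
    congr 1
    ext c
    exact j₀.commutes c
  let T₀ : Over (Spec (CommRingCat.of L₀)) := Over.mk (sL ≫ f₀)
  let P : T₀ ⟶ c₀.X := Over.homMk p hp
  let up : (Over.mk s₀ ⟶ c₀.X) → (T₀ ⟶ c₀.X) := fun y =>
    Over.homMk (Spec.map (CommRingCat.ofHom j₀.toRingHom) ≫ y.left)
      ((Category.assoc _ _ _).trans ((congrArg _ (Over.w y)).trans hj))
  have hup : ∀ (y : Over.mk s₀ ⟶ c₀.X) (g : G), up (y ≫ endo k b₀ c₀.act g) = up y ≫ endo k b₀ c₀.act g := by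
    intro y g
    exact Over.OverMorphism.ext (Category.assoc _ _ _).symm
  have htr : ∃! g : G, up y₁ ≫ endo k b₀ c₀.act g = P :=
    existsUnique_endo k b₀ c₀.act c₀.isTorsor.1 (sL ≫ f₀) (up y₁) P
  obtain ⟨g₁, hg₁, -⟩ := htr
  let y : Over.mk s₀ ⟶ c₀.X := y₁ ≫ endo k b₀ c₀.act g₁
  have hy : up y = P := (hup y₁ g₁).trans hg₁
  -- the homomorphism
  let tw : (N₀ ≃ₐ[L₀] N₀) → (Over.mk s₀ ⟶ c₀.X) := fun τ =>
    Over.homMk (Spec.map (CommRingCat.ofHom τ.toAlgHom.toRingHom) ≫ y.left) (by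
      refine (Category.assoc _ _ _).trans ((congrArg _ (Over.w y)).trans ?_)
      refine (Spec.map_comp _ _).symm.trans (congrArg Spec.map ?_)
      ext c
      exact τ.commutes c)
  have hex : ∀ τ, ∃! g : G, y ≫ endo k b₀ c₀.act g = tw τ := fun τ =>
    existsUnique_endo k b₀ c₀.act c₀.isTorsor.1 s₀ y (tw τ)
  choose c hc₁ hc₂ using hex
  have hmul : ∀ τ τ', (c (τ * τ'))⁻¹ = (c τ)⁻¹ * (c τ')⁻¹ := by
    intro τ τ'
    rw [← _root_.mul_inv_rev, inv_inj]
    refine (hc₂ (τ * τ') _ ?_).symm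
    show y ≫ endo k b₀ c₀.act (c τ' * c τ) = tw (τ * τ')
    rw [← endo_comp k b₀ c₀.act (c τ) (c τ'), ← Category.assoc, hc₁ τ]
    refine Over.OverMorphism.ext ?_
    show (Spec.map _ ≫ y.left) ≫ _ = Spec.map _ ≫ y.left
    rw [Category.assoc, ← Over.comp_left, hc₁ τ']
    refine (Category.assoc _ _ _).symm.trans (congrArg (· ≫ y.left) ?_)
    rw [← Spec.map_comp]
    rfl
  let a : (N₀ ≃ₐ[L₀] N₀) →* G := MonoidHom.mk' (fun τ => (c τ)⁻¹) hmul
  refine ⟨N₀, fN, aN, fdN, gN, j₀.toRingHom, a, fun x => j₀.commutes x, fun σ hσ h hh τ hτ => ?_⟩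
  -- both sides move `P` in the same way
  have hA : (P ≫ endo k b₀ c₀.act h⁻¹).left = Spec.map (CommRingCat.ofHom σ.toRingHom) ≫ p := by
    have hσL : Spec.map (CommRingCat.ofHom σ.toRingHom) ≫ sL = sL := by
      rw [← Spec.map_comp]
      congr 1
      ext x
      exact hσ x
    have hend : Spec.map (CommRingCat.ofHom ι₁.toRingHom) ≫ (endo k bK (galTorsor k K N e).act h⁻¹).left =
        Spec.map (CommRingCat.ofHom σ.toRingHom) ≫ Spec.map (CommRingCat.ofHom ι₁.toRingHom) := by
      have : endo k bK (galTorsor k K N e).act h⁻¹ = galEnd K N e h⁻¹ := endo_galAction k K N e h⁻¹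
      rw [this]
      refine ((Spec.map_comp _ _).symm.trans (congrArg Spec.map ?_)).trans (Spec.map_comp _ _)
      ext x
      simpa using (hh x).symm
    let l : Spec (CommRingCat.of Ω) ⟶ pullback X.hom fK :=
      pullback.lift (f := X.hom) (g := fK) (Spec.map (CommRingCat.ofHom ι₁.toRingHom)) sL hι
    have hkey : l ≫ ((Over.pullback fK).map (endo k bK (galTorsor k K N e).act h⁻¹)).left =
        Spec.map (CommRingCat.ofHom σ.toRingHom) ≫ l := by
      apply pullback.hom_ext
      · refine (Category.assoc _ _ _).trans ?_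
        refine (congrArg (l ≫ ·) (ActBC.pullback_map_left_fst fK _)).trans ?_
        refine (Category.assoc _ _ _).symm.trans ?_
        refine Eq.trans ?_ ((Category.assoc _ _ _).trans (congrArg _ (pullback.lift_fst _ _ _))).symm
        refine Eq.trans ?_ hend
        exact congrArg (· ≫ (endo k bK (galTorsor k K N e).act h⁻¹).left) (pullback.lift_fst _ _ _)
      · refine (Category.assoc _ _ _).trans ?_
        refine (congrArg (l ≫ ·) (Over.w ((Over.pullback fK).map (endo k bK (galTorsor k K N e).act h⁻¹)))).trans ?_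
        refine (pullback.lift_snd _ _ _).trans ?_
        exact ((Category.assoc _ _ _).trans ((congrArg _ (pullback.lift_snd _ _ _)).trans hσL)).symm
    show (l ≫ ψ) ≫ (endo k b₀ c₀.act h⁻¹).left = Spec.map (CommRingCat.ofHom σ.toRingHom) ≫ (l ≫ ψ)
    refine (Category.assoc _ _ _).trans ?_
    refine (congrArg (l ≫ ·) (hcomm h⁻¹).symm).trans ?_
    exact ((Category.assoc _ _ _).symm.trans (congrArg (· ≫ ψ) hkey)).trans (Category.assoc _ _ _)
  have hB : (P ≫ endo k b₀ c₀.act (c τ)).left = Spec.map (CommRingCat.ofHom σ.toRingHom) ≫ p := by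
    have hp' : p = Spec.map (CommRingCat.ofHom j₀.toRingHom) ≫ y.left := (congrArg (·.left) hy).symm
    rw [← hy, ← hup, hc₁, hp']
    show Spec.map _ ≫ Spec.map _ ≫ y.left = Spec.map _ ≫ Spec.map _ ≫ y.left
    simp only [← Category.assoc, ← Spec.map_comp]
    congr 2
    ext x
    exact (hτ x).symm
  obtain ⟨g, -, hg⟩ := existsUnique_endo k b₀ c₀.act c₀.isTorsor.1 (sL ≫ f₀) P (P ≫ endo k b₀ c₀.act h⁻¹)
  have h3 : c τ = h⁻¹ := (hg _ (Over.OverMorphism.ext (hB.trans hA.symm))).trans (hg _ rfl).symm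
  show (c τ)⁻¹ = h
  rw [h3, _root_.inv_inv]

end

end Groth.Agent.H13x26
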