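import Groth.Agent.Csa25.PglDescent
import Groth.Agent.Csa25.Tsen
import Groth.Agent.Csa25.Division

/-!
# Projective representations of Galois groups of fields of transcendence degree one are linearised
-/

set_option autoImplicit false
universe u v
open scoped TensorProduct MatrixGroups
attribute [local instance] CSAGal.matrixAction GpH1.unitsAction CSAGal.pglAction CSAGal.tensorAction
open Module

namespace Groth.Agent.H13x26

noncomputable section

theorem isCr_one_of_trdeg_le_one (k : Type u) [Field k] [IsAlgClosed k] (F : Type u) [Field F] [Algebra k F]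
    (hF : Algebra.trdeg k F ≤ 1) (L : Type u) [Field L] [Algebra F L] [Algebra.IsAlgebraic F L] :
    Curves.IsCr L 1 := by
  obtain ⟨i, hi, hCi⟩ : ∃ i ≤ 1, Curves.IsCi L i := by
    rcases eq_or_lt_of_le hF with h | h
    · exact ⟨1, le_rfl, Ci77.isCi_of_isAlgebraic (Ci77.tsen_lang (j := 1) (by simpa using h))⟩
    · rw [Cardinal.lt_one_iff] at h
      exact ⟨0, zero_le_one, Ci77.isCi_of_isAlgebraic (Ci77.tsen_lang (j := 0) (by simpa using h))⟩
  intro n d f hf hd hlt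
  obtain ⟨a, ha, h0⟩ := hCi 1 n (fun _ => f) (fun _ => d) (fun _ => hf) (fun _ => hd)
    (by
      simp only [Finset.sum_const, Finset.card_univ, Fintype.card_fin, one_smul]
      exact lt_of_le_of_lt (Nat.pow_le_pow_right hd hi) hlt)
  exact ⟨a, ha, h0 0⟩

theorem nonempty_algEquiv_matrix {M : Type u} [Field M] (hCr : Curves.IsCr M 1) {r : ℕ}
    (A : Type v) [Ring A] [Algebra M A] [Algebra.IsCentral M A] [IsSimpleRing A] (hA : finrank M A = r ^ 2)
    (hr : r ≠ 0) : Nonempty (A ≃ₐ[M] Matrix (Fin r) (Fin r) M) := by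
  haveI : FiniteDimensional M A := Module.finite_of_finrank_pos (by rw [hA]; positivity)
  obtain ⟨m, D, _, _, hm, _, _, ⟨e⟩⟩ := Csa25.exists_division M A
  have h1 := Csa77.finrank_eq_one_of_isCr_one hCr D
  let eD : M ≃ₐ[M] D := AlgEquiv.ofBijective (Algebra.ofId M D)
    ⟨(algebraMap M D).injective, fun x => Algebra.mem_bot.mp
      ((Subalgebra.bot_eq_top_of_finrank_eq_one h1).symm ▸ (trivial : x ∈ (⊤ : Subalgebra M D)))⟩
  let e' := e.trans eD.symm.mapMatrix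
  have hm' : m = r := by
    have h := e'.toLinearEquiv.finrank_eq
    rw [hA, Module.finrank_matrix, Module.finrank_self] at h
    simp only [Fintype.card_fin, mul_one] at h
    exact Nat.mul_self_inj.1 (by rw [← h, sq])
  subst hm'
  exact ⟨e'⟩

/-- If `M₀` has trivial Brauer group then a projective representation of `Gal(N/M₀)` with constant entries is a
coboundary. -/
theorem exists_linearise {M₀ N : Type u} [Field M₀] [Field N] [Algebra M₀ N] [FiniteDimensional M₀ N]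
    [IsGalois M₀ N] (hCr : Curves.IsCr M₀ 1) {r : ℕ} (hr : r ≠ 0)
    (R : (N ≃ₐ[M₀] N) → GL (Fin r) N)
    (hfix : ∀ (σ τ : N ≃ₐ[M₀] N), (R τ : Matrix (Fin r) (Fin r) N).map σ = (R τ : Matrix (Fin r) (Fin r) N))
    (hmul : ∀ σ τ, Matrix.ProjGenLinGroup.mk (R σ) * Matrix.ProjGenLinGroup.mk (R τ) =
      Matrix.ProjGenLinGroup.mk (R (σ * τ))) :
    ∃ P : GL (Fin r) N, ∀ σ : N ≃ₐ[M₀] N, ∃ c : N, c ≠ 0 ∧
      (P : Matrix (Fin r) (Fin r) N).map σ = c • ((P : Matrix (Fin r) (Fin r) N) * R σ) := by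
  classical
  haveI : NeZero r := ⟨hr⟩
  have hRfix : ∀ σ τ : N ≃ₐ[M₀] N, σ • R τ = R τ := fun σ τ => Units.ext (hfix σ τ)
  let c : GpH1.OneCocycle (N ≃ₐ[M₀] N) (Matrix.ProjGenLinGroup (Fin r) N) :=
    ⟨fun σ => Matrix.ProjGenLinGroup.mk (R σ), fun σ τ => by
      show Matrix.ProjGenLinGroup.mk (R (σ * τ)) =
        Matrix.ProjGenLinGroup.mk (R σ) * Matrix.ProjGenLinGroup.mk (σ • R τ)
      rw [hRfix, hmul]⟩
  obtain ⟨A, _, _, φ, hAc, hAs, hAd, hφ⟩ := Csa25.exists_csa_of_cocycle (Nat.pos_of_ne_zero hr) c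
  haveI := hAc
  haveI := hAs
  obtain ⟨θ⟩ := nonempty_algEquiv_matrix hCr A hAd hr
  let g : Matrix (Fin r) (Fin r) M₀ →ₐ[M₀] Matrix (Fin r) (Fin r) N :=
    (φ.toAlgHom.restrictScalars M₀).comp
      (Algebra.TensorProduct.includeRight.comp θ.symm.toAlgHom)
  let std : Matrix (Fin r) (Fin r) M₀ →ₐ[M₀] Matrix (Fin r) (Fin r) N :=
    (Algebra.ofId M₀ N).mapMatrix
  haveI : IsSimpleRing (N ⊗[M₀] Matrix (Fin r) (Fin r) M₀) :=
    Csa25.isSimpleRing_baseChange M₀ (Matrix (Fin r) (Fin r) M₀) N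
  let F (h : Matrix (Fin r) (Fin r) M₀ →ₐ[M₀] Matrix (Fin r) (Fin r) N) :
      N ⊗[M₀] Matrix (Fin r) (Fin r) M₀ →ₐ[N] Matrix (Fin r) (Fin r) N :=
    Algebra.TensorProduct.lift (Algebra.ofId N _) h fun a _ => Algebra.commutes a _
  obtain ⟨P₀, hP₀⟩ := Csa25.exists_unit_conj (k := N) (F std) (F g)
  have hg : ∀ X, g X = (P₀ : Matrix (Fin r) (Fin r) N) * std X * (P₀⁻¹ : GL (Fin r) N) := fun X => by
    simpa [F] using hP₀ (1 ⊗ₜ X)
  refine ⟨P₀⁻¹, fun σ => ?_⟩
  have hgfix : ∀ X, g X = (R σ : Matrix (Fin r) (Fin r) N) * σ • g X * ((R σ)⁻¹ : GL (Fin r) N) := by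
    intro X
    have h := hφ σ (φ (1 ⊗ₜ θ.symm X))
    rw [φ.symm_apply_apply] at h
    rw [show (c σ : Matrix.ProjGenLinGroup (Fin r) N) = Matrix.ProjGenLinGroup.mk (R σ) from rfl,
      Csa25.pglAut_mk] at h
    refine Eq.trans ?_ h
    show φ (1 ⊗ₜ θ.symm X) = φ (σ • ((1 : N) ⊗ₜ θ.symm X))
    congr 1
    show (1 : N) ⊗ₜ θ.symm X = σ (1 : N) ⊗ₜ θ.symm X
    rw [map_one]
  let Z : GL (Fin r) N := P₀⁻¹ * R σ * (σ • P₀)
  have hZ : ∀ X, Commute (Z : Matrix (Fin r) (Fin r) N) (std X) := by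
    intro X
    have h := hgfix X
    rw [hg] at h
    have hs : σ • ((P₀ : Matrix (Fin r) (Fin r) N) * std X * (P₀⁻¹ : GL (Fin r) N)) =
        ((σ • P₀ : GL (Fin r) N) : Matrix (Fin r) (Fin r) N) * std X * ((σ • P₀)⁻¹ : GL (Fin r) N) := by
      rw [smul_mul', smul_mul']
      have h1 : σ • std X = std X := by
        ext a b
        exact σ.commutes (X a b)
      rw [h1, ← smul_inv']
      rfl
    rw [hs] at h
    have h2 := congrArg (fun B => ((P₀⁻¹ : GL (Fin r) N) : Matrix (Fin r) (Fin r) N) * B *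
      ((R σ * (σ • P₀) : GL (Fin r) N) : Matrix (Fin r) (Fin r) N)) h
    show (Z : Matrix (Fin r) (Fin r) N) * std X = std X * (Z : Matrix (Fin r) (Fin r) N)
    rw [show (Z : Matrix (Fin r) (Fin r) N) = ((P₀⁻¹ : GL (Fin r) N) : Matrix (Fin r) (Fin r) N) *
      (R σ : Matrix (Fin r) (Fin r) N) * ((σ • P₀ : GL (Fin r) N) : Matrix (Fin r) (Fin r) N) from rfl]
    generalize σ • P₀ = Q₀ at h2 ⊢
    simpa [Z, mul_assoc] using h2.symm
  obtain ⟨z, hz⟩ : (Z : Matrix (Fin r) (Fin r) N) ∈ Set.range (Matrix.scalar (Fin r)) := by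
    refine Matrix.mem_range_scalar_of_commute_single fun i j _ => ?_
    have := (hZ (Matrix.single i j 1)).symm
    rwa [show std (Matrix.single i j (1 : M₀)) = Matrix.single i j (1 : N) from by
      simp [std, Matrix.map_single]] at this
  have hz0 : z ≠ 0 := by
    intro h0
    rw [h0, map_zero] at hz
    exact Z.isUnit.ne_zero hz.symm
  refine ⟨z⁻¹, inv_ne_zero hz0, ?_⟩
  have h3 : (P₀⁻¹ * R σ : GL (Fin r) N) = Z * σ • P₀⁻¹ := by
    rw [smul_inv']
    simp [Z]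
  have h4 := congrArg (fun B : GL (Fin r) N => (B : Matrix (Fin r) (Fin r) N)) h3
  simp only [Units.val_mul] at h4
  rw [h4, ← hz, Matrix.scalar_apply, ← Matrix.smul_eq_diagonal_mul, smul_smul, inv_mul_cancel₀ hz0, one_smul]
  rfl

end

end Groth.Agent.H13x26
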