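import Groth.Agent.H13x26.Descend
import Groth.Agent.H13x26.Crossed
import Groth.Agent.H13x26.Split
import Mathlib.FieldTheory.Galois.Infinite

/-!
# Essential dimension one for torsors forces the Brauer restriction to vanish
-/

set_option autoImplicit false
universe u
open CategoryTheory AlgebraicGeometry
open scoped TensorProduct

namespace Groth.Agent.H13x26

noncomputable section

/-- A copy of `Fin m` without arithmetic, to carry a transported group law. -/
def Idx (m : ℕ) : Type := Fin m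

instance (m : ℕ) : Fintype (Idx m) := inferInstanceAs (Fintype (Fin m))
instance (m : ℕ) : DecidableEq (Idx m) := inferInstanceAs (DecidableEq (Fin m))

/-- Splitting over a field containing `L`, given the homomorphism data. -/
theorem splits_of_data {k K E : Type u} [Field k] [IsAlgClosed k] [CharZero k] [Field K] [Algebra k K]
    [Field E] [Algebra K E]
    {N : Type u} [Field N] [Algebra K N] [Algebra E N] [IsScalarTower K E N] [FiniteDimensional K N] [IsGalois K N]
    {D : Type u} [DivisionRing D] [Algebra E D] [Algebra.IsCentral E D] [FiniteDimensional E D]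
    {n r : ℕ} (hn : n ≠ 0) (hr : r ≠ 0) (hD : Module.finrank E D = n * n)
    (R : (N ≃ₐ[E] N) → GL (Fin r) k)
    (j : Matrix (Fin r) (Fin r) D →ₐ[E] Matrix (Fin n × Fin r) (Fin n × Fin r) N)
    (hR : ∀ σ τ, Matrix.ProjGenLinGroup.mk (R σ) * Matrix.ProjGenLinGroup.mk (R τ) =
      Matrix.ProjGenLinGroup.mk (R (σ * τ)))
    (hj : ∀ (σ : N ≃ₐ[E] N) X, (j X).map σ =
      blockMat n ((algebraMap K N).comp (algebraMap k K)) ((R σ)⁻¹ : GL (Fin r) k) * j X *
        blockMat n ((algebraMap K N).comp (algebraMap k K)) (R σ : Matrix (Fin r) (Fin r) k))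
    {G : Type} [Group G] (e : G ≃* (N ≃ₐ[K] N))
    {L L₀ : Type u} [Field L] [Algebra K L] [Field L₀] [Algebra k L₀] [Algebra L₀ L]
    (hk : ∀ x : k, algebraMap L₀ L (algebraMap k L₀ x) = algebraMap K L (algebraMap k K x))
    (htr : Algebra.trdeg k L₀ ≤ 1)
    (M : Type u) [Field M] [Algebra E M] [Algebra L M] [Algebra K M] [IsScalarTower K E M] [IsScalarTower K L M]
    (emb : N →ₐ[E] AlgebraicClosure M)
    {N₀ : Type u} [Field N₀] [Algebra L₀ N₀] [FiniteDimensional L₀ N₀] [IsGalois L₀ N₀]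
    (j₀ : N₀ →+* AlgebraicClosure M) (a : (N₀ ≃ₐ[L₀] N₀) →* G)
    (hj₀ : ∀ c : L₀, j₀ (algebraMap L₀ N₀ c) = algebraMap L (AlgebraicClosure M) (algebraMap L₀ L c))
    (ha : ∀ (σ : AlgebraicClosure M ≃+* AlgebraicClosure M),
      (∀ c : L, σ (algebraMap L _ c) = algebraMap L _ c) → ∀ h : G, (∀ x, σ (emb x) = emb (e h x)) →
        ∀ τ : N₀ ≃ₐ[L₀] N₀, (∀ x, σ (j₀ x) = j₀ (τ x)) → a τ = h) :
    ∃ n : ℕ, Nonempty ((M ⊗[E] D) ≃ₐ[M] Matrix (Fin n) (Fin n) M) := by
  classical
  haveI : CharZero K := charZero_of_injective_algebraMap (algebraMap k K).injective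
  haveI : CharZero M := charZero_of_injective_algebraMap (algebraMap K M).injective
  haveI : NeZero n := ⟨hn⟩
  haveI : NeZero r := ⟨hr⟩
  let Ω := AlgebraicClosure M
  haveI : IsScalarTower K E Ω := IsScalarTower.of_algebraMap_eq fun x => by
    rw [IsScalarTower.algebraMap_apply K M Ω, IsScalarTower.algebraMap_apply K E M,
      ← IsScalarTower.algebraMap_apply E M Ω]
  haveI : IsScalarTower K L Ω := IsScalarTower.of_algebraMap_eq fun x => by
    rw [IsScalarTower.algebraMap_apply K M Ω, IsScalarTower.algebraMap_apply K L M,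
      ← IsScalarTower.algebraMap_apply L M Ω]
  haveI : IsGalois M Ω := ⟨⟩
  -- the subgroup
  let res : (N ≃ₐ[E] N) →* G :=
    e.symm.toMonoidHom.comp
      { toFun := fun σ => σ.restrictScalars K, map_one' := rfl, map_mul' := fun _ _ => rfl }
  have hres : Function.Injective res := fun σ τ h => AlgEquiv.ext fun x =>
    AlgEquiv.congr_fun (e.symm.injective h) x
  let H₀ : Subgroup (N₀ ≃ₐ[L₀] N₀) := res.range.comap a
  let M₀ : IntermediateField L₀ N₀ := IntermediateField.fixedField H₀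
  have hmem : ∀ τ : N₀ ≃ₐ[M₀] N₀, ∃ h : N ≃ₐ[E] N, res h = a (τ.restrictScalars L₀) := by
    intro τ
    have : τ.restrictScalars L₀ ∈ IntermediateField.fixingSubgroup M₀ :=
      (IntermediateField.mem_fixingSubgroup_iff _ _).2 fun x hx => τ.commutes ⟨x, hx⟩
    rw [IntermediateField.fixingSubgroup_fixedField] at this
    exact this
  choose ρ hρ using hmem
  have hρmul : ∀ σ τ, ρ (σ * τ) = ρ σ * ρ τ := fun σ τ => hres (by
    rw [map_mul, hρ, hρ, hρ, ← map_mul]
    rfl)
  let φ₀ : k →+* N₀ := (algebraMap L₀ N₀).comp (algebraMap k L₀)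
  let φN : k →+* N := (algebraMap K N).comp (algebraMap k K)
  have hφ₀ : j₀.comp φ₀ = (emb : N →+* Ω).comp φN := by
    refine RingHom.ext fun x => ?_
    show j₀ (algebraMap L₀ N₀ (algebraMap k L₀ x)) = emb (algebraMap K N (algebraMap k K x))
    rw [hj₀, hk, ← IsScalarTower.algebraMap_apply K L Ω, IsScalarTower.algebraMap_apply K E N, emb.commutes,
      ← IsScalarTower.algebraMap_apply K E Ω]
  have hCr : Curves.IsCr M₀ 1 := isCr_one_of_trdeg_le_one k L₀ htr M₀
  let RN : (N₀ ≃ₐ[M₀] N₀) → GL (Fin r) N₀ := fun τ => Units.map φ₀.mapMatrix.toMonoidHom (R (ρ τ))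
  have hfix : ∀ (σ τ : N₀ ≃ₐ[M₀] N₀),
      (RN τ : Matrix (Fin r) (Fin r) N₀).map σ = (RN τ : Matrix (Fin r) (Fin r) N₀) := by
    intro σ τ
    ext p q
    show (σ.restrictScalars L₀) (algebraMap L₀ N₀ _) = algebraMap L₀ N₀ _
    rw [AlgEquiv.commutes]
  have hmul : ∀ σ τ, Matrix.ProjGenLinGroup.mk (RN σ) * Matrix.ProjGenLinGroup.mk (RN τ) =
      Matrix.ProjGenLinGroup.mk (RN (σ * τ)) := by
    intro σ τ
    have h := hR (ρ σ) (ρ τ)
    rw [← map_mul, Matrix.ProjGenLinGroup.mk_eq_mk_iff] at h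
    obtain ⟨c, hc⟩ := h
    rw [← map_mul, Matrix.ProjGenLinGroup.mk_eq_mk_iff]
    refine ⟨Units.map φ₀.toMonoidHom c, ?_⟩
    show RN σ * RN τ * _ = Units.map φ₀.mapMatrix.toMonoidHom (R (ρ (σ * τ)))
    rw [hρmul, ← hc, map_mul, map_mul]
    congr 1
    refine Units.ext ?_
    ext p q
    simp [Matrix.scalar_apply, Matrix.diagonal_apply, apply_ite φ₀]
  obtain ⟨P, hP⟩ := exists_linearise hCr hr RN hfix hmul
  -- the conjugated embedding
  let P' : (Matrix (Fin n × Fin r) (Fin n × Fin r) Ω)ˣ :=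
    Units.map (blockMat n (RingHom.id Ω)) (Units.map j₀.mapMatrix.toMonoidHom P)
  let F : Matrix (Fin r) (Fin r) D →ₐ[E] Matrix (Fin n × Fin r) (Fin n × Fin r) Ω :=
    (conjHom P'⁻¹).comp (emb.mapMatrix.comp j)
  have hF : ∀ X, F X * P' = (P' : Matrix (Fin n × Fin r) (Fin n × Fin r) Ω) * (j X).map emb := fun X => by
    simp [F, conjHom, mul_assoc]
  have hP' : (P' : Matrix (Fin n × Fin r) (Fin n × Fin r) Ω) =
      (blockMat n j₀ (P : Matrix (Fin r) (Fin r) N₀)) := by
    ext p q
    simp [P', blockMat]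
  have hfixed : ∀ X (σ : Ω ≃ₐ[M] Ω), (F X).map σ = F X := by
    intro X σ
    letI : Algebra N Ω := emb.toRingHom.toAlgebra
    haveI : IsScalarTower E N Ω := IsScalarTower.of_algebraMap_eq fun x => (emb.commutes x).symm
    haveI : Normal E N := Normal.tower_top_of_normal K E N
    let h : N ≃ₐ[E] N := (σ.restrictScalars E).restrictNormal N
    have hh : ∀ x, σ (emb x) = emb (h x) := fun x =>
      ((σ.restrictScalars E).restrictNormal_commutes N x).symm
    have hσL : ∀ c : L, σ.toRingEquiv (algebraMap L Ω c) = algebraMap L Ω c := fun c => by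
      rw [IsScalarTower.algebraMap_apply L M Ω]
      exact σ.commutes _
    letI : Algebra L₀ Ω := ((algebraMap L Ω).comp (algebraMap L₀ L)).toAlgebra
    letI : Algebra N₀ Ω := j₀.toAlgebra
    haveI : IsScalarTower L₀ N₀ Ω := IsScalarTower.of_algebraMap_eq fun x => (hj₀ x).symm
    let σ₀ : Ω ≃ₐ[L₀] Ω := AlgEquiv.ofRingEquiv (f := σ.toRingEquiv) fun c => hσL (algebraMap L₀ L c)
    let τ₀ : N₀ ≃ₐ[L₀] N₀ := σ₀.restrictNormal N₀
    have hτ₀ : ∀ x, σ (j₀ x) = j₀ (τ₀ x) := fun x => (σ₀.restrictNormal_commutes N₀ x).symm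
    have haτ : a τ₀ = res h := ha σ.toRingEquiv hσL (res h) (fun x => by
      show σ (emb x) = emb (e (e.symm (h.restrictScalars K)) x)
      rw [e.apply_symm_apply, hh]
      rfl) τ₀ hτ₀
    have hτmem : ∀ x : M₀, τ₀ x = x := by
      intro x
      have : τ₀ ∈ H₀ := ⟨h, haτ.symm⟩
      exact x.2 ⟨τ₀, this⟩
    let τ : N₀ ≃ₐ[M₀] N₀ := AlgEquiv.ofRingEquiv (f := τ₀.toRingEquiv) hτmem
    have hρτ : ρ τ = h := hres ((hρ τ).trans haτ)
    obtain ⟨c, hc0, hc⟩ := hP τ
    let W : (Matrix (Fin n × Fin r) (Fin n × Fin r) Ω)ˣ :=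
      Units.map (blockMat n ((emb : N →+* Ω).comp φN)) (R h)
    have hσP : (P' : Matrix (Fin n × Fin r) (Fin n × Fin r) Ω).map σ = j₀ c • ((P' : Matrix (Fin n × Fin r) (Fin n × Fin r) Ω) * W) := by
      show _ = j₀ c • ((P' : Matrix (Fin n × Fin r) (Fin n × Fin r) Ω) * blockMat n ((emb : N →+* Ω).comp φN) (R h : Matrix (Fin r) (Fin r) k))
      rw [hP']
      have e1 : (blockMat n j₀ (P : Matrix (Fin r) (Fin r) N₀)).map σ =
          blockMat n j₀ ((P : Matrix (Fin r) (Fin r) N₀).map τ) := by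
        ext p q
        simp only [blockMat, MonoidHom.coe_mk, OneHom.coe_mk, Matrix.map_apply, Matrix.kroneckerMap_apply,
          map_mul, Matrix.one_apply, apply_ite σ, map_one, map_zero]
        rw [hτ₀]
        rfl
      rw [e1, hc, blockMat_smul, map_mul, ← hφ₀, ← hρτ]
      rfl
    have hσy : ((j X).map emb).map σ = ((W⁻¹ : (Matrix (Fin n × Fin r) (Fin n × Fin r) Ω)ˣ) : Matrix (Fin n × Fin r) (Fin n × Fin r) Ω) * (j X).map emb * (W : Matrix (Fin n × Fin r) (Fin n × Fin r) Ω) := by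
      have e1 : ((j X).map emb).map σ = ((j X).map h).map emb := by
        ext p q
        exact hh _
      have e2 : ∀ A : Matrix (Fin r) (Fin r) k,
          (blockMat n φN A).map emb = blockMat n ((emb : N →+* Ω).comp φN) A := fun A => blockMat_map φN (emb : N →+* Ω) A
      rw [e1, hj h X, Matrix.map_mul, Matrix.map_mul, e2, e2]
      rfl
    have hX := congrArg (fun B : Matrix (Fin n × Fin r) (Fin n × Fin r) Ω => B.map σ) (hF X)
    simp only [Matrix.map_mul] at hX
    rw [hσP, hσy, Matrix.mul_smul, Matrix.smul_mul] at hX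
    have hX' := smul_right_injective _ ((map_ne_zero j₀).2 hc0) hX
    rw [← mul_assoc, ← mul_assoc, mul_assoc (P' : Matrix (Fin n × Fin r) (Fin n × Fin r) Ω) W] at hX'
    simp only [mul_assoc, Units.mul_inv_cancel_left] at hX'
    simp only [← mul_assoc] at hX'
    have h2 := (W.isUnit.mul_left_injective) hX'
    exact P'.isUnit.mul_left_injective (h2.trans (hF X).symm)
  -- descend to `M`
  let inc : Matrix (Fin n × Fin r) (Fin n × Fin r) M →ₐ[E] Matrix (Fin n × Fin r) (Fin n × Fin r) Ω :=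
    (IsScalarTower.toAlgHom E M Ω).mapMatrix
  have hinc : Function.Injective inc := Matrix.map_injective (algebraMap M Ω).injective
  have hrange : ∀ X, F X ∈ inc.range := by
    intro X
    choose m hm using fun p : (Fin n × Fin r) × (Fin n × Fin r) =>
      (InfiniteGalois.mem_range_algebraMap_iff_fixed (F X p.1 p.2)).2
        fun σ => congrFun (congrFun (hfixed X σ) p.1) p.2
    exact ⟨Matrix.of fun p q => m (p, q), Matrix.ext fun p q => hm (p, q)⟩
  let FM : Matrix (Fin r) (Fin r) D →ₐ[E] Matrix (Fin n × Fin r) (Fin n × Fin r) M :=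
    (AlgEquiv.ofInjective inc hinc).symm.toAlgHom.comp (F.codRestrict inc.range hrange)
  haveI : IsSimpleRing (M ⊗[E] Matrix (Fin r) (Fin r) D) :=
    Csa25.isSimpleRing_baseChange E (Matrix (Fin r) (Fin r) D) M
  let Φ : M ⊗[E] Matrix (Fin r) (Fin r) D →ₐ[M] Matrix (Fin n × Fin r) (Fin n × Fin r) M :=
    Algebra.TensorProduct.lift (Algebra.ofId M _) FM fun x _ => Algebra.commutes x _
  have hinj : Function.Injective Φ := RingHom.injective Φ.toRingHom
  have hdim : Module.finrank M (M ⊗[E] Matrix (Fin r) (Fin r) D) =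
      Module.finrank M (Matrix (Fin n × Fin r) (Fin n × Fin r) M) := by
    rw [Module.finrank_baseChange, Module.finrank_matrix, Module.finrank_matrix, Module.finrank_self, hD]
    simp only [Fintype.card_fin, Fintype.card_prod]
    ring
  let eΦ := AlgEquiv.ofBijective Φ
    ⟨hinj, (LinearMap.injective_iff_surjective_of_finrank_eq_finrank (f := Φ.toLinearMap) hdim).1 hinj⟩
  let e₁ : Matrix (Fin r) (Fin r) (M ⊗[E] D) ≃ₐ[M] Matrix (Fin r) (Fin r) (Matrix (Fin n) (Fin n) M) :=
    ((Csa25.baseChangeMatrixEquiv E D M (Fin r)).symm.trans eΦ).trans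
      ((Matrix.reindexAlgEquiv M M (Equiv.prodComm (Fin n) (Fin r))).trans
        (Matrix.compAlgEquiv (Fin r) (Fin n) M M).symm)
  haveI := Csa25.isCentral_baseChange E D M
  haveI := Csa25.isSimpleRing_baseChange E D M
  exact ⟨n, Csa25.nonempty_algEquiv_of_matrix hr e₁⟩

/-- **Hilbert's 13th problem and the Brauer group.**  If every torsor under a finite group becomes of essential dimension
at most one over a field `L` with the property `Φ`, then every central simple algebra over a finite separable extension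
is split by such a field. -/
theorem exists_splitting_field (k K : Type u) [Field k] [IsAlgClosed k] [CharZero k] [Field K] [Algebra k K]
    (Φ : ∀ (L : Type u) [Field L] [Algebra K L], Prop)
    (h13 : ∀ (S : Over (Spec (CommRingCat.of k))) [GrpObj S] [IsFinite S.hom]
      (β : NonAbH1.TorsorSch (Red.bc (Spec.map (CommRingCat.ofHom (algebraMap k K))) S) Scheme.etalePrecoverage),
      ∃ (L : Type u) (_ : Field L) (_ : Algebra K L), Φ L ∧
        ∃ (L₀ : Type u) (_ : Field L₀) (_ : Algebra k L₀) (_ : Algebra L₀ L)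
          (hc : Spec.map (CommRingCat.ofHom (algebraMap L₀ L)) ≫ Spec.map (CommRingCat.ofHom (algebraMap k L₀)) = Spec.map (CommRingCat.ofHom (algebraMap K L)) ≫ Spec.map (CommRingCat.ofHom (algebraMap k K)))
          (c₀ : NonAbH1.TorsorSch (Red.bc (Spec.map (CommRingCat.ofHom (algebraMap k L₀))) S) Scheme.etalePrecoverage),
          Algebra.trdeg k L₀ ≤ 1 ∧
          Nonempty (NonAbH1.EquivIso
            ((c₀.act.bc (Spec.map (CommRingCat.ofHom (algebraMap L₀ L)))).restrict
              (ActBC.bcCompIso (Spec.map (CommRingCat.ofHom (algebraMap L₀ L))) (Spec.map (CommRingCat.ofHom (algebraMap k L₀))) S hc).inv)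
            ((β.act.bc (Spec.map (CommRingCat.ofHom (algebraMap K L)))).restrict
              (ActBC.bcCompIso (Spec.map (CommRingCat.ofHom (algebraMap K L))) (Spec.map (CommRingCat.ofHom (algebraMap k K))) S rfl).inv)))
    (E : Type u) [Field E] [Algebra K E] [FiniteDimensional K E]
    (D : Type u) [DivisionRing D] [Algebra E D] [Algebra.IsCentral E D] [FiniteDimensional E D] :
    ∃ (L : Type u) (_ : Field L) (_ : Algebra K L), Φ L ∧
      ∀ (M : Type u) [Field M] [Algebra K M] [Algebra E M] [Algebra L M] [IsScalarTower K E M]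
        [IsScalarTower K L M],
        ∃ n : ℕ, Nonempty ((M ⊗[E] D) ≃ₐ[M] Matrix (Fin n) (Fin n) M) := by
  classical
  obtain ⟨N, fN, aKN, aEN, tN, fdN, gN, n, r, R, j, hn, hr, hD, hR, hj⟩ :=
    exists_twisted_model (k := k) (K := K) (E := E) (D := D)
  let ee : Idx (Fintype.card (N ≃ₐ[K] N)) ≃ (N ≃ₐ[K] N) := (Fintype.equivFin (N ≃ₐ[K] N)).symm
  letI : Group (Idx (Fintype.card (N ≃ₐ[K] N))) := ee.group
  let e : Idx (Fintype.card (N ≃ₐ[K] N)) ≃* (N ≃ₐ[K] N) := ee.mulEquiv
  haveI := isFinite_cst k (G := Idx (Fintype.card (N ≃ₐ[K] N)))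
  obtain ⟨L, fL, aKL, hΦ, L₀, fL₀, akL₀, aL₀L, hc, c₀, htr, ⟨EI⟩⟩ :=
    h13 (cst k (Idx (Fintype.card (N ≃ₐ[K] N)))) (galTorsor k K N e)
  refine ⟨L, fL, aKL, hΦ, fun M _ _ _ _ _ _ => ?_⟩
  have hk : ∀ x : k, algebraMap L₀ L (algebraMap k L₀ x) = algebraMap K L (algebraMap k K x) := by
    have h := hc
    rw [← Spec.map_comp, ← Spec.map_comp] at h
    intro x
    exact congrArg (fun m => m.hom x) (Spec.map_injective h)
  haveI : IsScalarTower K L (AlgebraicClosure M) := IsScalarTower.of_algebraMap_eq fun x => by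
    rw [IsScalarTower.algebraMap_apply K M (AlgebraicClosure M), IsScalarTower.algebraMap_apply K L M,
      ← IsScalarTower.algebraMap_apply L M (AlgebraicClosure M)]
  haveI : IsScalarTower K E (AlgebraicClosure M) := IsScalarTower.of_algebraMap_eq fun x => by
    rw [IsScalarTower.algebraMap_apply K M (AlgebraicClosure M), IsScalarTower.algebraMap_apply K E M,
      ← IsScalarTower.algebraMap_apply E M (AlgebraicClosure M)]
  haveI : FiniteDimensional E N := Module.Finite.of_restrictScalars_finite K E N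
  let emb : N →ₐ[E] AlgebraicClosure M := IsAlgClosed.lift
  obtain ⟨N₀, fN₀, aN₀, fdN₀, gN₀, j₀, a, hj₀, ha⟩ :=
    exists_hom_data k K N e hc c₀ EI (AlgebraicClosure M) (emb.restrictScalars K)
  exact splits_of_data hn hr hD R j hR hj e hk htr M emb j₀ a hj₀ ha

end

end Groth.Agent.H13x26
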