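import Groth.Agent.H13x26.Constant

/-!
# Field-valued points of constant groups and of their torsors; base change of the endomorphisms
-/

set_option autoImplicit false
universe u
open CategoryTheory CategoryTheory.Limits MonoidalCategory CartesianMonoidalCategory MonObj GrpObj AlgebraicGeometry

namespace Groth.Agent.H13x26

noncomputable section

variable (k : Type u) [Field k] {G : Type} [Group G] [Fintype G] [DecidableEq G]
variable {B : Scheme.{u}} (b : B ⟶ Spec (CommRingCat.of k))

/-- Every field-valued point of the constant group is one of the constant sections. -/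
theorem exists_sect {Ω : Type u} [Field Ω] (s : Spec (CommRingCat.of Ω) ⟶ B)
    (v : Over.mk s ⟶ Red.bc b (cst k G)) : ∃ g : G, v = toUnit _ ≫ sect k b g := by
  classical
  let p : Spec (CommRingCat.of Ω) ⟶ Spec (CommRingCat.of (ConstGrp.F k G)) := v.left ≫ pullback.fst (cst k G).hom b
  obtain ⟨φ, hφ⟩ : ∃ φ : CommRingCat.of (ConstGrp.F k G) ⟶ CommRingCat.of Ω, Spec.map φ = p :=
    ⟨Spec.preimage p, Spec.map_preimage p⟩
  have hp : p ≫ Spec.map (CommRingCat.ofHom (algebraMap k (ConstGrp.F k G))) = s ≫ b := by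
    have h1 : pullback.fst (cst k G).hom b ≫ (cst k G).hom = (Red.bc b (cst k G)).hom ≫ b := pullback.condition
    refine (Category.assoc _ _ _).trans ((congrArg (v.left ≫ ·) h1).trans ?_)
    exact (Category.assoc _ _ _).symm.trans (congrArg (· ≫ b) (Over.w v))
  have hsum : ∑ g : G, φ.hom (ConstGrp.e k g) = 1 := by
    rw [← map_sum, ConstGrp.sum_e, map_one]
  obtain ⟨g, hg⟩ : ∃ g : G, φ.hom (ConstGrp.e k g) ≠ 0 := by
    by_contra hne
    push Not at hne
    rw [Finset.sum_eq_zero (fun g _ => hne g)] at hsum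
    exact zero_ne_one hsum
  have hg1 : φ.hom (ConstGrp.e k g) = 1 := by
    have h1 : φ.hom (ConstGrp.e k g) * φ.hom (ConstGrp.e k g) = φ.hom (ConstGrp.e k g) * 1 := by
      rw [← map_mul, ConstGrp.e_mul_e, if_pos rfl, _root_.mul_one]
    exact mul_left_cancel₀ hg h1
  have hne : ∀ h, h ≠ g → φ.hom (ConstGrp.e k h) = 0 := by
    intro h hh
    rw [← _root_.mul_one (φ.hom (ConstGrp.e k h)), ← hg1, ← map_mul, ConstGrp.e_mul_e, if_neg (Ne.symm hh), map_zero]
  have hev : φ.hom = (φ.hom.comp (algebraMap k (ConstGrp.F k G))).comp (ConstGrp.ev k g).toRingHom := by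
    refine RingHom.ext fun f => ?_
    conv_lhs => rw [ConstGrp.eq_sum_smul_e f, map_sum]
    rw [Finset.sum_eq_single g]
    · rw [Algebra.smul_def, map_mul, hg1, _root_.mul_one]
      rfl
    · intro h _ hh
      rw [Algebra.smul_def, map_mul, hne h hh, mul_zero]
    · simp
  refine ⟨g, bc_hom_ext k b ?_⟩
  show p = _
  refine Eq.trans ?_ ((Category.assoc _ _ _).trans (congrArg (s ≫ ·) (sect_left_fst k b g))).symm
  rw [← hφ] at hp ⊢
  have hd : φ = CommRingCat.ofHom (ConstGrp.ev k g).toRingHom ≫
      (CommRingCat.ofHom (algebraMap k (ConstGrp.F k G)) ≫ φ) := CommRingCat.hom_ext hev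
  refine (congrArg Spec.map hd).trans ?_
  rw [Spec.map_comp, Spec.map_comp, hp, Category.assoc]
  rfl

theorem sect_injective {Ω : Type u} [Field Ω] (s : Spec (CommRingCat.of Ω) ⟶ B) {g h : G}
    (hgh : (toUnit (Over.mk s) ≫ sect k b g) = toUnit (Over.mk s) ≫ sect k b h) : g = h := by
  classical
  by_contra hne
  have h1 := congrArg (fun m => Over.Hom.left m ≫ pullback.fst (cst k G).hom b) hgh
  have h2 : ∀ g : G, (toUnit (Over.mk s) ≫ sect k b g).left ≫ pullback.fst (cst k G).hom b =
      Spec.map (CommRingCat.ofHom (ConstGrp.ev k g).toRingHom ≫ Spec.preimage (s ≫ b)) := by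
    intro g
    refine (Category.assoc _ _ _).trans ((congrArg (s ≫ ·) (sect_left_fst k b g)).trans ?_)
    rw [Spec.map_comp, Spec.map_preimage]
    exact (Category.assoc _ _ _).symm
  have h3 := Spec.map_injective ((h2 g).symm.trans (h1.trans (h2 h)))
  have h4 := congrArg (fun m : CommRingCat.of (ConstGrp.F k G) ⟶ CommRingCat.of Ω => m.hom (ConstGrp.e k g)) h3
  simp [ConstGrp.e_apply, Ne.symm hne] at h4

theorem lift_sect_act {X : Over B} (a : AlgGrp.Action (Red.bc b (cst k G)) X) (g : G) {T : Over B} (x : T ⟶ X) :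
    lift (toUnit T ≫ sect k b g) x ≫ a.act = x ≫ endo k b a g := by
  rw [endo, ← comp_naturality_assoc k b g x, ← Category.assoc]
  congr 1
  apply CartesianMonoidalCategory.hom_ext <;> simp [comp]

/-- A pseudo-torsor under a constant group: the group acts simply transitively on field-valued points. -/
theorem existsUnique_endo {X : Over B} (a : AlgGrp.Action (Red.bc b (cst k G)) X)
    (ha : NonAbH1.IsPseudoTorsorSch a) {Ω : Type u} [Field Ω] (s : Spec (CommRingCat.of Ω) ⟶ B)
    (x y : Over.mk s ⟶ X) : ∃! g : G, x ≫ endo k b a g = y := by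
  haveI : IsIso (lift a.act (snd (Red.bc b (cst k G)) X)) := ha
  let p := lift y x ≫ inv (lift a.act (snd (Red.bc b (cst k G)) X))
  have hp : p ≫ lift a.act (snd _ _) = lift y x := by
    simp only [p, Category.assoc, IsIso.inv_hom_id, Category.comp_id]
  have hp2 : p ≫ snd _ _ = x := by simpa using congrArg (· ≫ snd X X) hp
  have hp1 : p ≫ a.act = y := by simpa using congrArg (· ≫ fst X X) hp
  obtain ⟨g, hg⟩ := exists_sect k b s (p ≫ fst _ _)
  refine ⟨g, ?_, fun g' hg' => ?_⟩
  · show x ≫ endo k b a g = y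
    rw [← lift_sect_act, ← hg, ← hp1]
    congr 1
    apply CartesianMonoidalCategory.hom_ext <;> simp [hp2]
  · apply sect_injective k b s
    rw [← hg]
    have : lift (toUnit (Over.mk s) ≫ sect k b g') x ≫ lift a.act (snd _ _) = lift y x := by
      rw [comp_lift, lift_snd, lift_sect_act, hg']
    have h3 := (cancel_mono (lift a.act (snd (Red.bc b (cst k G)) X))).1 (this.trans hp.symm)
    rw [← h3, lift_fst]

/-- An equivariant morphism commutes with the endomorphisms. -/
theorem endo_equivIso {X X' : Over B} {a : AlgGrp.Action (Red.bc b (cst k G)) X}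
    {a' : AlgGrp.Action (Red.bc b (cst k G)) X'} (e : NonAbH1.EquivIso a a') (g : G) :
    endo k b a g ≫ e.iso.hom = e.iso.hom ≫ endo k b a' g := by
  rw [endo, endo, Category.assoc, e.comm, comp_naturality_assoc]

/-- The endomorphisms of a base-changed action. -/
theorem endo_bc {B' : Scheme.{u}} (f : B' ⟶ B) (d : B' ⟶ Spec (CommRingCat.of k)) (h : f ≫ b = d)
    {X : Over B} (a : AlgGrp.Action (Red.bc b (cst k G)) X) (g : G) :
    endo k d ((a.bc f).restrict (ActBC.bcCompIso f b (cst k G) h).inv) g =
      (Over.pullback f).map (endo k b a g) := by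
  rw [endo, endo, AlgGrp.Action.restrict_act, AlgGrp.Action.bc_act, Functor.map_comp, ← Category.assoc,
    ← Category.assoc]
  congr 1
  conv_rhs => rw [comp, ← Functor.Monoidal.lift_μ]
  congr 1
  apply CartesianMonoidalCategory.hom_ext
  · rw [Category.assoc, whiskerRight_fst, comp_fst_assoc, lift_fst, ← cancel_mono (ActBC.bcCompIso f b (cst k G) h).hom]
    simp only [Category.assoc, Iso.inv_hom_id, Category.comp_id]
    apply bc_hom_ext k d
    refine (Eq.trans ?_ ((Category.assoc _ _ _).trans
      (congrArg ((toUnit (Red.bc f X)).left ≫ ·) (sect_left_fst k d g))).symm).symm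
    refine ((Category.assoc _ _ _).trans (congrArg _ (ActBC.bcCompIso_hom_left_fst f b (cst k G) h))).trans ?_
    refine ((Category.assoc _ _ _).symm.trans (congrArg (· ≫ pullback.fst (cst k G).hom b)
      (ActBC.pullback_map_left_fst f (toUnit X ≫ sect k b g)))).trans ?_
    refine (Category.assoc _ _ _).trans ?_
    refine (congrArg (pullback.fst X.hom f ≫ ·) ((Category.assoc _ _ _).trans
      (congrArg ((toUnit X).left ≫ ·) (sect_left_fst k b g)))).trans ?_
    rw [← h]
    have hc : pullback.fst X.hom f ≫ X.hom = pullback.snd X.hom f ≫ f := pullback.condition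
    refine Eq.trans ?_ (congrArg (pullback.snd X.hom f ≫ ·) (Category.assoc f b (pnt k g))).symm
    exact (Category.assoc _ _ _).symm.trans ((congrArg (· ≫ (b ≫ pnt k g)) hc).trans (Category.assoc _ _ _))
  · rw [Category.assoc, whiskerRight_snd, comp_snd, lift_snd, CategoryTheory.Functor.map_id]

end

end Groth.Agent.H13x26
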